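import Cfsg.Agent.Lib.Chev.TwE6Five.Data

/-! Checks of the finite data, and the stabiliser of the first torus element in the Weyl group. -/

set_option autoImplicit false
set_option maxRecDepth 100000

namespace Cfsg.Lib.Chev.TwE6Five

open Cfsg.Lie

/-- The exponent of a root at an element of the torus of order 25. -/
noncomputable def eI (i j : ℤ) (x : ℕ) : ℤ :=
  (i * (ipT tblE6 56 x + 3 * ipT tblE6 36 x) + j * (ipT tblE6 46 x + 3 * ipT tblE6 69 x)) % 5

/-- The code of a root. -/
noncomputable def keyT (x : ℕ) : ℤ := sumBelow (fun l => tblE6.coroot x l * 8 ^ l) 6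

/-- The roots of a given exponent. -/
noncomputable def cls (x : ℕ) : ℕ := (eI 1 0 x).toNat

theorem eL_mem : ∀ x < 72, x ∈ nth [] eL (cls x) := by decide +kernel

theorem keyP_eq : ∀ x < 72, ((slot keyP 24 x : ℕ) : ℤ) = keyT x + 2097152 := by decide +kernel

theorem keyL_mem : ∀ x < 72, slot keyP 24 x ∈ nth [] keyL (cls x) := by decide +kernel

theorem ordL_ok : (∀ j < 6, nth 0 ordL j < 6) ∧ ∀ m < 6, ∃ j < 6, nth 0 ordL j = m := by decide +kernel

theorem rows_ok : ∀ k < 6, ∀ q ∈ nth [] rowsL k, q.1 < 72 ∧ cls q.1 = q.2.1 ∧ q.2.2.2.length = k + 1 ∧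
    (∀ j < 6, tblE6.coroot q.1 (nth 0 ordL j) = ((nth 0 q.2.2.2 j : ℕ) : ℤ)) ∧
    ((q.2.2.1 : ℕ) : ℤ) + 2097152 = 2097152 * ((q.2.2.2.sum : ℕ) : ℤ) := by decide +kernel

theorem levi_iff : ∀ x < 72, (eI 1 0 x = 0 ↔ x ∈ ptL) := by decide +kernel

theorem levi_fix : ∀ x ∈ ptL, x < 72 ∧ symE6_1.root x = x ∧ wperm tblE6 [5] x = x ∧ eI 1 0 x = 0 ∧
    tblE6.neg x ∈ ptL := by decide +kernel

theorem stW_word : ∀ v ∈ stW, ∀ i ∈ v, i < 6 := by decide +kernel

theorem stI_word : ∀ is ∈ stI, ∀ k ∈ is, k < 3 := by decide +kernel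

theorem refA_root : ∀ p ∈ refA, (∀ i ∈ p.1, i < 6) ∧ p.2 < 6 ∧ wperm tblE6 p.1 (tblE6.simp' p.2) ∈ ptL := by
  decide +kernel

theorem stW_eq : ∀ m < 24, ∀ k < 6, wperm tblE6 (nth [] stW m) (tblE6.simp' k) =
    wperm tblE6 ((nth [] stI m).flatMap fun i => refWord (refA.getD i ([], 0))) (tblE6.simp' k) := by
  decide +kernel

theorem stW_comm : ∀ v ∈ stW, ∀ k < 6, wperm tblE6 ([5] ++ v.map symE6_1.node ++ [5].reverse) (tblE6.simp' k) =
    wperm tblE6 v (tblE6.simp' k) := by decide +kernel

theorem clW_comm : ∀ p ∈ clW, (∀ i ∈ p.2.2, i < 6) ∧ ∀ k < 6,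
    wperm tblE6 (nW ++ p.2.2.map symE6_1.node ++ nW.reverse) (tblE6.simp' k) =
      wperm tblE6 p.2.2 (tblE6.simp' k) := by decide +kernel

theorem clW_exp : ∀ p ∈ clW, ∀ x < 72,
    (ipT tblE6 (wperm tblE6 p.2.2 56) x + 3 * ipT tblE6 (wperm tblE6 p.2.2 36) x) % 5 =
      eI p.1 p.2.1 x := by decide +kernel

theorem clW_cover : ∀ i ∈ List.range 5, ∀ j ∈ List.range 5, i + j = 0 ∨ (i, j) ∈ clW.map (fun p => (p.1, p.2.1)) := by
  decide +kernel

theorem eI_sep : ∀ i < 5, ∀ j < 5, i + j ≠ 0 → ∃ x < 72, eI (i : ℕ) (j : ℕ) x ≠ 0 := by decide +kernel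

theorem com_exp : ∀ x ∈ comL, x < 72 ∧ eI 1 0 x = 2 := by decide +kernel

theorem nW_parts : nW = [5] ++ refWord (wB, 0) ++ refWord ([3], 1) ++ refWord (3 :: wB, 0) ∧
    wperm tblE6 wB (tblE6.simp' 0) = 69 ∧ wperm tblE6 [3] (tblE6.simp' 1) = 47 ∧
    wperm tblE6 (3 :: wB) (tblE6.simp' 0) = 70 ∧ ∀ i ∈ 3 :: wB, i < 6 := by decide +kernel

theorem perm_facts : wperm tblE6 [5] 56 = 56 ∧ wperm tblE6 [5] 46 = 46 ∧ wperm tblE6 [5] 69 = 69 ∧
    wperm tblE6 [5] 47 = 47 ∧ wperm tblE6 [5] 70 = 70 ∧ wperm tblE6 (refWord ([3], 1) ++ refWord (3 :: wB, 0)) 46 = 69 ∧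
    wperm tblE6 (refWord ([3], 1) ++ refWord (3 :: wB, 0)) 69 = 46 := by decide +kernel

theorem long_ok : (∀ i ∈ longW, i < 6) ∧ ∀ k < 6,
    wperm tblE6 longW (tblE6.simp' k) = tblE6.neg (tblE6.simp' (symE6_1.node k)) := by decide +kernel

/-! ### The stabiliser -/

/-- Evaluation of a numeral before use. -/
noncomputable def forceN {α : Type} (n : ℕ) (f : ℕ → α) : α := Nat.rec (f 0) (fun m _ => f (m + 1)) n

theorem forceN_eq {α : Type} (n : ℕ) (f : ℕ → α) : forceN n f = f n := by cases n <;> rfl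

/-- The combination of codes. -/
noncomputable def dotK (c : List ℕ) (l : List ℕ) : ℕ :=
  List.rec (motive := fun _ => List ℕ → ℕ) (fun _ => 0)
    (fun a _ r l => List.rec 0 (fun x l' _ => a * slot keyP 24 x + r l') l) c l

/-- The images of the first fundamental roots are consistent with a linear map keeping the exponents. -/
noncomputable def okPre (k : ℕ) (l : List ℕ) : Bool :=
  (nth [] rowsL k).all fun q => forceN (dotK q.2.2.2 l) fun s =>
    (nth [] keyL q.2.1).any fun y => Nat.beq (y + q.2.2.1) s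

/-- The candidates for the images of the first `k` fundamental roots of the search. -/
noncomputable def cands (k : ℕ) : List (List ℕ) :=
  Nat.rec [[]] (fun k L => L.flatMap fun pre =>
    ((nth [] eL (cls (tblE6.simp' (nth 0 ordL k)))).filter fun x => okPre k (pre ++ [x])).map fun x => pre ++ [x]) k

/-- The images of the fundamental roots under a word. -/
noncomputable def imgs (v : List ℕ) : List ℕ := (List.range 6).map fun k => wperm tblE6 v (tblE6.simp' (nth 0 ordL k))

theorem cands_six : (cands 6).all (fun l => stW.any fun v => (eqNats l (imgs v) ||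
    eqNats l ((imgs (v ++ [5, 0])).map tblE6.neg))) = true := by decide +kernel

theorem dotK_eq (g : ℕ → ℕ) : ∀ (c : List ℕ) (s : ℕ),
    dotK c ((List.range' s c.length).map g) =
      ∑ j ∈ Finset.range c.length, nth 0 c j * slot keyP 24 (g (s + j))
  | [], _ => rfl
  | a :: c, s => by
    rw [List.length_cons, List.range'_succ, List.map_cons, Finset.sum_range_succ']
    show a * slot keyP 24 (g s) + dotK c _ = _
    rw [dotK_eq g c (s + 1), add_comm]
    refine congrArg₂ _ (Finset.sum_congr rfl fun j _ => ?_) rfl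
    rw [show nth 0 (a :: c) (j + 1) = nth 0 c j from rfl, show s + (j + 1) = s + 1 + j by omega]

theorem mem_cands {w : List ℕ} (hw : IsWord chevE6 w)
    (he : ∀ x < 72, eI 1 0 (wperm tblE6 w x) = eI 1 0 x) :
    ∀ k ≤ 6, (List.range k).map (fun j => wperm tblE6 w (tblE6.simp' (nth 0 ordL j))) ∈ cands k := by
  intro k
  induction k with
  | zero => intro _; exact List.mem_singleton.2 rfl
  | succ k ih =>
    intro hk
    have hs : tblE6.simp' (nth 0 ordL k) < 72 := certE6C.spec.simp_lt _ (ordL_ok.1 k (by omega))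
    have hlt : ∀ x < 72, wperm tblE6 w x < 72 := fun x hx => wperm_lt certE6C hw hx
    have hc : ∀ x < 72, cls (wperm tblE6 w x) = cls x := fun x hx => by rw [cls, cls, he x hx]
    show _ ∈ (cands k).flatMap _
    refine List.mem_flatMap.2 ⟨_, ih (by omega),
      List.mem_map.2 ⟨wperm tblE6 w (tblE6.simp' (nth 0 ordL k)), List.mem_filter.2 ⟨?_, ?_⟩, ?_⟩⟩
    · have := eL_mem _ (hlt _ hs)
      rwa [hc _ hs] at this
    · simp only [okPre, forceN_eq, List.all_eq_true, List.any_eq_true, Nat.beq_eq]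
      intro q hq
      obtain ⟨hr72, hcls, hlen, hco, hoff⟩ := rows_ok k (by omega) q hq
      refine ⟨slot keyP 24 (wperm tblE6 w q.1), ?_, ?_⟩
      · have := keyL_mem _ (hlt q.1 hr72)
        rwa [hc q.1 hr72, hcls] at this
      · have hl : (List.range k).map (fun j => wperm tblE6 w (tblE6.simp' (nth 0 ordL j))) ++
            [wperm tblE6 w (tblE6.simp' (nth 0 ordL k))] =
            (List.range' 0 q.2.2.2.length).map fun j => wperm tblE6 w (tblE6.simp' (nth 0 ordL j)) := by
          rw [hlen, ← List.range_eq_range', List.range_succ, List.map_append]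
          rfl
        rw [hl, dotK_eq]
        simp only [zero_add]
        have hcw := coroot_wperm certE6C hw (r := q.1) hr72
        have hzero : ∀ j, k + 1 ≤ j → nth 0 q.2.2.2 j = 0 := fun j hj => by
          rw [nth_eq, List.getD_eq_default]
          omega
        have hsum : ((q.2.2.2.sum : ℕ) : ℤ) = ∑ j ∈ Finset.range 6, ((nth 0 q.2.2.2 j : ℕ) : ℤ) := by
          have : q.2.2.2.sum = ∑ j ∈ Finset.range (k + 1), nth 0 q.2.2.2 j := by
            rw [← hlen, Finset.sum_range, ← Fin.sum_univ_getElem]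
            exact Finset.sum_congr rfl fun j _ => by rw [nth_eq, List.getD_eq_getElem _ _ j.2]
          rw [this, Nat.cast_sum]
          refine Finset.sum_subset (fun j hj => Finset.mem_range.2 ?_) fun j hj hj' => ?_
          · rw [Finset.mem_range] at hj; omega
          · rw [hzero j (by simpa using hj'), Nat.cast_zero]
        have key : keyT (wperm tblE6 w q.1) =
            ∑ j ∈ Finset.range 6, tblE6.coroot q.1 j * keyT (wperm tblE6 w (tblE6.simp' j)) := by
          simp only [keyT, sumBelow_eq]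
          rw [Finset.sum_congr rfl fun l hl => by rw [hcw l (Finset.mem_range.1 hl), Finset.sum_mul]]
          rw [Finset.sum_comm]
          refine Finset.sum_congr rfl fun j _ => ?_
          rw [Finset.mul_sum]
          exact Finset.sum_congr rfl fun l _ => by ring
        have reidx : ∀ f : ℕ → ℤ, ∑ j ∈ Finset.range 6, f (nth 0 ordL j) = ∑ j ∈ Finset.range 6, f j := by
          intro f
          simp only [Finset.sum_range_succ, Finset.sum_range_zero, zero_add]
          rw [show nth 0 ordL 0 = 3 from rfl, show nth 0 ordL 1 = 2 from rfl, show nth 0 ordL 2 = 0 from rfl,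
            show nth 0 ordL 3 = 4 from rfl, show nth 0 ordL 4 = 5 from rfl, show nth 0 ordL 5 = 1 from rfl]
          ring
        rw [← reidx] at key
        apply Nat.cast_injective (R := ℤ)
        push_cast
        rw [keyP_eq _ (hlt q.1 hr72), key]
        calc _ = ∑ j ∈ Finset.range 6, tblE6.coroot q.1 (nth 0 ordL j) *
              keyT (wperm tblE6 w (tblE6.simp' (nth 0 ordL j))) + 2097152 * ((q.2.2.2.sum : ℕ) : ℤ) := by
              rw [← hoff]; ring
          _ = ∑ j ∈ Finset.range 6, ((nth 0 q.2.2.2 j : ℕ) : ℤ) *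
              ((slot keyP 24 (wperm tblE6 w (tblE6.simp' (nth 0 ordL j))) : ℕ) : ℤ) := by
              rw [hsum, Finset.mul_sum, ← Finset.sum_add_distrib]
              refine Finset.sum_congr rfl fun j hj => ?_
              have hj6 := Finset.mem_range.1 hj
              rw [hco j hj6, keyP_eq _ (hlt _ (certE6C.spec.simp_lt _ (ordL_ok.1 j hj6)))]
              ring
          _ = _ := by
              refine (Finset.sum_subset (fun j hj => Finset.mem_range.2 ?_) fun j hj hj' => ?_).symm
              · rw [Finset.mem_range, hlen] at hj; omega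
              · rw [hzero j (by simpa [hlen] using hj'), Nat.cast_zero, zero_mul]
    · rw [List.range_succ, List.map_append]; rfl

theorem stab_word {w : List ℕ} (hw : IsWord chevE6 w) (he : ∀ x < 72, eI 1 0 (wperm tblE6 w x) = eI 1 0 x) :
    ∃ v ∈ stW, ∀ k < 6, wperm tblE6 w (tblE6.simp' k) = wperm tblE6 v (tblE6.simp' k) := by
  have hmem := mem_cands hw he 6 le_rfl
  obtain ⟨v, hv, hb⟩ := List.any_eq_true.1 (List.all_eq_true.1 cands_six _ hmem)
  have hget : ∀ (f g : ℕ → ℕ), (List.range 6).map (fun j => f (nth 0 ordL j)) =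
      (List.range 6).map (fun j => g (nth 0 ordL j)) → ∀ k < 6, f k = g k := fun f g h k hk => by
    obtain ⟨j, hj, rfl⟩ := ordL_ok.2 k hk
    exact List.map_inj_left.1 h j (List.mem_range.2 hj)
  rcases (Bool.or_eq_true _ _ ▸ hb : _ ∨ _) with h | h
  · exact ⟨v, hv, hget (fun k => wperm tblE6 w (tblE6.simp' k)) (fun k => wperm tblE6 v (tblE6.simp' k))
      (eqNats_iff _ _ h)⟩
  · exfalso
    have h' := eqNats_iff _ _ h
    rw [imgs, List.map_map] at h'
    have hf := hget (fun k => wperm tblE6 w (tblE6.simp' k))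
      (fun k => tblE6.neg (wperm tblE6 (v ++ [5, 0]) (tblE6.simp' k))) h'
    have hvf : IsWord chevE6 (v ++ [5, 0]) := IsWord.append (fun i hi => stW_word v hv i hi) (fun i hi => by
      simp only [List.mem_cons, List.not_mem_nil, or_false] at hi
      rcases hi with rfl | rfl <;> decide)
    set u := (v ++ [5, 0]).reverse ++ w with hu
    have huw : IsWord chevE6 u := hvf.reverse.append hw
    have hun : ∀ k < 6, wperm tblE6 u (tblE6.simp' k) = tblE6.neg (tblE6.simp' k) := fun k hk => by
      have hs : tblE6.simp' k < 72 := certE6C.spec.simp_lt k hk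
      have e := hf k hk
      rw [hu, wperm_append, e, wperm_neg certE6C hvf.reverse (wperm_lt certE6C hvf hs),
        wperm_reverse certE6C hvf hs]
    have hl : IsWord chevE6 longW := long_ok.1
    have hpos : ∀ k < 6, wperm tblE6 (u ++ longW) (tblE6.simp' k) = tblE6.simp' (symE6_1.node k) := fun k hk => by
      have hn : symE6_1.node k < 6 := symOKE6_gr.node_lt k hk
      have hs : tblE6.simp' (symE6_1.node k) < 72 := certE6C.spec.simp_lt _ hn
      rw [wperm_append, long_ok.2 k hk, wperm_neg certE6C huw hs, hun _ hn]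
      exact certE6C.spec.neg_neg _ hs
    have hd := word_kernel certE6C fullCertE6 (F := ℚ) _ rfl (huw.append hl) fun k hk => by
      rw [hpos k hk]
      exact fullCertE6.simple_pos (symOKE6_gr.node_lt k hk)
    have h0 := perm_of_same certE6C (F := ℚ) (v := []) (fun i hi => absurd hi List.not_mem_nil) (huw.append hl)
      (by simpa [wnu] using hd) (certE6C.spec.simp_lt 0 (by decide : 0 < chevE6.rank))
    rw [hpos 0 (by norm_num)] at h0
    exact absurd h0 (by decide +kernel)

end Cfsg.Lib.Chev.TwE6Five
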