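import Cfsg.Agent.Lib.Chev.TwE6Five.Torus

/-! The centraliser of the first torus element in the group fixed by its twisting. -/

set_option autoImplicit false
set_option maxRecDepth 100000
set_option linter.unusedSectionVars false

namespace Cfsg.Lib.Chev.TwE6Five

open Cfsg.Lie
open scoped MatrixGroups

variable {L : Type*} [Field L] [CharP L 2] [Fintype L] {y : L} (hy : y ^ 4 = y + 1) (hL : Fintype.card L = 16)

/-- The group generated by the root elements of the Levi subsystem over the prime field. -/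
noncomputable def levi (L : Type*) [Field L] : Subgroup (GL chevE6.Idx L) :=
  Subgroup.closure {g | ∃ r ∈ ptL, g = xg certE6C r (1 : L)}

/-- The twisting of the first torus. -/
noncomputable def fA : GL chevE6.Idx L →* GL chevE6.Idx L :=
  haveI : Fact (Nat.Prime 2) := ⟨Nat.prime_two⟩
  (MulAut.conj (wnu certE6C L [5])).toMonoidHom.comp (sigHom symOKE6_gr (frobenius L 2))

theorem fA_apply (g : GL chevE6.Idx L) : fA g = wnu certE6C L [5] * sg g * (wnu certE6C L [5])⁻¹ := rfl

theorem fA_xg {x : ℕ} (hx : x < 72) (t : L) :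
    fA (xg certE6C x t) = xg certE6C (wperm tblE6 [5] (symE6_1.root x)) (t ^ 2) := by
  rw [fA_apply, sg_xg hx, wnu_conj_xg_two certE6C word_five (symOKE6_gr.root_lt x hx)]

theorem fA_levi_root {r : ℕ} (hr : r ∈ ptL) (t : L) : fA (xg certE6C r t) = xg certE6C r (t ^ 2) := by
  obtain ⟨h1, h2, h3, -, -⟩ := levi_fix r hr
  rw [fA_xg h1, h2, h3]

include hy hL in
theorem levi_comm {g : GL chevE6.Idx L} (hg : g ∈ levi L) :
    Commute (tA y) g ∧ fA g = g ∧ g ∈ chevE6.group L := by
  induction hg using Subgroup.closure_induction with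
  | mem x hx =>
    obtain ⟨r, hr, rfl⟩ := hx
    obtain ⟨h1, -, -, h4, -⟩ := levi_fix r hr
    refine ⟨?_, by rw [fA_levi_root hr, one_pow], xg_mem_group certE6C _ _⟩
    have h := tt_acts hy hL 1 0 r h1 1
    simp only [tt, pow_one, pow_zero, mul_one, Nat.cast_one, Nat.cast_zero] at h
    rw [h4, zpow_zero] at h
    exact mul_inv_eq_iff_eq_mul.1 h
  | one => exact ⟨Commute.one_right _, map_one _, one_mem _⟩
  | mul a b _ _ ha hb => exact ⟨ha.1.mul_right hb.1, by rw [map_mul, ha.2.1, hb.2.1], mul_mem ha.2.2 hb.2.2⟩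
  | inv a _ ha => exact ⟨ha.1.inv_right, by rw [map_inv, ha.2.1], inv_mem ha.2.2⟩

theorem wnu_ref_mem {p : List ℕ × ℕ} (hp : p ∈ refA) : wnu certE6C L (refWord p) ∈ levi L := by
  obtain ⟨h1, h2, h3⟩ := refA_root p hp
  obtain ⟨h4, -, -, -, h5⟩ := levi_fix _ h3
  rw [refWord, ← ng_eq_wnu certE6C fullCertE6 h1 h2 rfl, ng, certE6C.spec.shape.neg_eq _ h4, inv_one, neg_one_L]
  refine mul_mem (mul_mem ?_ ?_) ?_
  exacts [Subgroup.subset_closure ⟨_, h3, rfl⟩, Subgroup.subset_closure ⟨_, h5, rfl⟩,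
    Subgroup.subset_closure ⟨_, h3, rfl⟩]

theorem wnu_levi {v : List ℕ} (hv : v ∈ stW) : wnu certE6C L v ∈ levi L := by
  obtain ⟨m, hm, e⟩ := List.getElem_of_mem hv
  have hm24 : m < 24 := hm
  have hnth : nth [] stW m = v := by rw [nth_eq, List.getD_eq_getElem _ _ hm, e]
  have his : nth [] stI m ∈ stI := by
    rw [nth_eq, List.getD_eq_getElem _ _ (show m < stI.length from hm24)]
    exact List.getElem_mem _
  have hmem : ∀ i ∈ nth [] stI m, refA.getD i ([], 0) ∈ refA := fun i hi => by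
    rw [List.getD_eq_getElem _ _ (show i < refA.length from stI_word _ his i hi)]
    exact List.getElem_mem _
  have hword : IsWord chevE6 ((nth [] stI m).flatMap fun i => refWord (refA.getD i ([], 0))) := fun j hj => by
    obtain ⟨i, hi, hj'⟩ := List.mem_flatMap.1 hj
    obtain ⟨h1, h2, -⟩ := refA_root _ (hmem i hi)
    simp only [refWord, List.mem_append, List.mem_singleton, List.mem_reverse] at hj'
    rcases hj' with (h | rfl) | h
    exacts [h1 j h, h2, h1 j h]
  rw [← hnth, wnu_eq_two certE6C fullCertE6 (show IsWord chevE6 (nth [] stW m) from fun i hi => stW_word _ (hnth ▸ hv) i hi)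
    hword (stW_eq m hm24)]
  have key : ∀ l : List ℕ, (∀ i ∈ l, refA.getD i ([], 0) ∈ refA) →
      wnu certE6C L (l.flatMap fun i => refWord (refA.getD i ([], 0))) ∈ levi L := by
    intro l
    induction l with
    | nil => intro _; simp [wnu]
    | cons a l ih =>
      intro hl
      rw [List.flatMap_cons, wnu_append]
      exact mul_mem (wnu_ref_mem (hl a (List.mem_cons_self ..))) (ih fun i hi => hl i (List.mem_cons_of_mem _ hi))
  exact key _ hmem

theorem fA_wnu_levi {v : List ℕ} (hv : v ∈ stW) : fA (wnu certE6C L v) = wnu certE6C L v := by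
  haveI : Fact (Nat.Prime 2) := ⟨Nat.prime_two⟩
  have hw : IsWord chevE6 v := fun i hi => stW_word v hv i hi
  have hn : IsWord chevE6 (v.map symE6_1.node) := fun i hi => by
    obtain ⟨a, ha, rfl⟩ := List.mem_map.1 hi
    exact symOKE6_gr.node_lt a (hw a ha)
  have hrev : (wnu certE6C L [5])⁻¹ = wnu certE6C L ([5] : List ℕ).reverse := by
    refine inv_eq_of_mul_eq_one_right ?_
    rw [← wnu_append, wnu_eq_two certE6C fullCertE6 (w := []) (word_five.append word_five.reverse)
      (fun i hi => absurd hi List.not_mem_nil) (by decide +kernel)]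
    simp [wnu]
  rw [fA_apply, sg, sig_wnu certE6C symOKE6_gr _ hw, hrev, ← wnu_append, ← wnu_append,
    wnu_eq_two certE6C fullCertE6 ((word_five.append hn).append word_five.reverse) hw (stW_comm v hv)]

include hy hL in
theorem fA_fixU {c : Fin chevE6.rank → Lˣ}
    (hc : ∀ x < 72, chr tblE6 chevE6 (extend' c) x = (y ^ 3) ^ eI 1 0 x) {g : GL chevE6.Idx L}
    (hg : g ∈ fixU certE6C c) :
    haveI : Fact (Nat.Prime 2) := ⟨Nat.prime_two⟩
    fA g = Matrix.GeneralLinearGroup.map (frobenius L 2) g := by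
  haveI : Fact (Nat.Prime 2) := ⟨Nat.prime_two⟩
  obtain ⟨t, ht, rfl⟩ := hg
  simp only [oprod, map_list_prod, List.map_map]
  refine congrArg List.prod (List.map_congr_left fun r hr => ?_)
  have hr72 : r < 72 := by have := List.mem_range'_1.1 hr; exact this.2
  simp only [Function.comp, map_xg, frobenius_def]
  by_cases hp : r ∈ ptL
  · rw [fA_levi_root hp]
  · rw [ht r, xg_zero, map_one]
    · simp [xg_zero]
    · rw [hc r hr72]
      intro h
      have h5 := zeta_eq_one hy hL h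
      rw [eI, Int.emod_emod_of_dvd _ dvd_rfl] at h5
      exact hp ((levi_iff r hr72).1 h5)

include hy hL in
theorem fixU_levi {c : Fin chevE6.rank → Lˣ}
    (hc : ∀ x < 72, chr tblE6 chevE6 (extend' c) x = (y ^ 3) ^ eI 1 0 x) {g : GL chevE6.Idx L}
    (hg : g ∈ fixU certE6C c) (hfix : fA g = g) : g ∈ levi L := by
  haveI : Fact (Nat.Prime 2) := ⟨Nat.prime_two⟩
  rw [fA_fixU hy hL hc hg] at hfix
  obtain ⟨t, ht, rfl⟩ := hg
  have e : Matrix.GeneralLinearGroup.map (frobenius L 2) (oprod certE6C (chevE6.nroots / 2) (chevE6.nroots / 2) t) =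
      oprod certE6C (chevE6.nroots / 2) (chevE6.nroots / 2) fun r => t r ^ 2 := by
    simp [oprod, map_list_prod, List.map_map, Function.comp_def, map_xg, frobenius_def]
  rw [e] at hfix
  have h2 := oprod_inj certE6C (chevE6.nroots / 2) (k := chevE6.nroots / 2) (show 72 ≤ 2 * (72 / 2) by norm_num)
    (show 72 / 2 + 72 / 2 = 72 by norm_num) hfix
  refine list_prod_mem fun x hx => ?_
  obtain ⟨r, hr, rfl⟩ := List.mem_map.1 hx
  obtain ⟨hr1, hr2⟩ := List.mem_range'_1.1 hr
  have hr72 : r < 72 := hr2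
  rcases mul_left_eq_self₀.1 ((pow_two (t r)).symm.trans (h2 r hr1 hr72)) with h | h
  · rw [h]
    refine Subgroup.subset_closure ⟨r, ?_, rfl⟩
    by_contra hp
    refine absurd h ?_
    rw [ht r]
    · exact zero_ne_one
    · rw [hc r hr72]
      intro h'
      have h5 := zeta_eq_one hy hL h'
      rw [eI, Int.emod_emod_of_dvd _ dvd_rfl] at h5
      exact hp ((levi_iff r hr72).1 h5)
  · rw [h, xg_zero]; exact one_mem _

theorem cart_rel : (∀ j < 6, tblE6.cartan j 38 = 1 * tblE6.cartan j 37 + 1 * tblE6.cartan j 36) ∧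
    (∀ j < 6, tblE6.cartan j 35 = (-1) * tblE6.cartan j 36 + 0 * tblE6.cartan j 36) := by decide +kernel

theorem pi_vals : ∀ p ∈ [(56, 35), (42, 38), (37, 42), (36, 56), (46, 46), (39, 39)],
    wperm tblE6 [5] (symE6_1.root p.1) = p.2 ∧ p.1 < 72 := by decide +kernel

theorem chr_lin {D : ChevalleyDatum} {T : Tbl} {F : Type*} [Field F] (c : Fin D.rank → Fˣ) {a x z : ℕ} (m n : ℤ)
    (h : ∀ j < D.rank, T.cartan j a = m * T.cartan j x + n * T.cartan j z) :
    chr T D (extend' c) a = chr T D (extend' c) x ^ m * chr T D (extend' c) z ^ n := by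
  simp only [chr, ← Finset.prod_zpow, ← Finset.prod_mul_distrib]
  refine Finset.prod_congr rfl fun j hj => ?_
  rw [← zpow_mul, ← zpow_mul, ← zpow_add₀ (extend'_ne c j), h j (Finset.mem_range.1 hj)]
  congr 1
  ring

include hy hL in
theorem torus_fixed {d : GL chevE6.Idx L} (hd : d ∈ chevE6.diagonalSubgroup L) (hfix : fA d = d) :
    ∃ i : ℕ, d = tA y ^ i := by
  obtain ⟨z, hz⟩ := (torusHom_range certE6C (F := L)).symm ▸ hd
  set χ : ℕ → L := fun x => chr tblE6 chevE6 (extend' z) x with hχ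
  have hact : ∀ x < 72, ∀ t : L, d * xg certE6C x t * d⁻¹ = xg certE6C x (χ x * t) := fun x hx t => by
    rw [← hz, torusHom_conj_xg certE6C z hx]
  have hpi : ∀ p ∈ [(56, 35), (42, 38), (37, 42), (36, 56), (46, 46), (39, 39)], χ p.2 = χ p.1 ^ 2 := by
    intro p hp
    obtain ⟨e, hlt⟩ := pi_vals p hp
    have h := congrArg fA (hact p.1 hlt 1)
    rw [map_mul, map_mul, map_inv, hfix, fA_xg hlt, fA_xg hlt, e] at h
    have hp2 : p.2 < 72 := e ▸ wperm_lt certE6C word_five (symOKE6_gr.root_lt _ hlt)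
    rw [hact p.2 hp2] at h
    have := xg_injective certE6C hp2 h
    simpa using this
  have hne : ∀ x, χ x ≠ 0 := fun x => chr_ne_zero' certE6C z x
  have e56 := hpi (56, 35) (by simp)
  have e42 := hpi (42, 38) (by simp)
  have e37 := hpi (37, 42) (by simp)
  have e36 := hpi (36, 56) (by simp)
  have e46 := hpi (46, 46) (by simp)
  have e39 := hpi (39, 39) (by simp)
  simp only at e56 e42 e37 e36 e46 e39
  have h38 : χ 38 = χ 37 * χ 36 := by
    have := chr_lin z 1 1 cart_rel.1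
    simpa using this
  have h35 : χ 35 = (χ 36)⁻¹ := by
    have := chr_lin z (-1) 0 cart_rel.2
    simpa using this
  have h46 : χ 46 = 1 := (mul_eq_left₀ (hne 46)).1 (by rw [← pow_two]; exact e46.symm)
  have h39 : χ 39 = 1 := (mul_eq_left₀ (hne 39)).1 (by rw [← pow_two]; exact e39.symm)
  set Fv := χ 36 with hF
  set Cv := χ 37 with hC
  have hF5 : Fv ^ 5 = 1 := by
    rw [h35, e36, ← pow_mul] at e56
    rw [show Fv ^ 5 = Fv * Fv ^ (2 * 2) by ring, ← e56, mul_inv_cancel₀ (hne 36)]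
  have hC3 : Cv ^ 3 = Fv := by
    rw [h38, e37, ← pow_mul] at e42
    exact mul_left_cancel₀ (hne 37) (by rw [← pow_succ']; exact e42.symm)
  let z' : Fin 6 → Lˣ := z
  have hz3 : ((z' 0 : Lˣ) : L) ^ 3 =
      χ 56 ^ 4 * χ 46 ^ 3 * χ 42 ^ 5 * χ 39 ^ 6 * χ 37 ^ 4 * χ 36 ^ 2 := by
    have h : powHom (G := Lˣ) (invThreeE6 * cartanMat chevE6 tblE6) z ⟨0, by decide⟩ = z' 0 ^ 3 := by
      rw [invThreeE6_mul]
      exact powHom_diagonal (fun _ => 3) z _
    rw [powHom_mul, MonoidHom.comp_apply] at h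
    have hv : ∀ k : Fin chevE6.rank, ((powHom (cartanMat chevE6 tblE6) z k : Lˣ) : L) = χ (tblE6.simp' k) := by
      intro k
      show ((∏ j, z j ^ cartanMat chevE6 tblE6 k j : Lˣ) : L) = _
      rw [hχ, Units.coe_prod]
      simp only [chr]
      rw [← Fin.prod_univ_eq_prod_range (fun j => extend' z j ^ tblE6.cartan j (tblE6.simp' k)) chevE6.rank]
      exact Finset.prod_congr rfl fun j _ => by simp [extend', cartanMat, Units.val_zpow_eq_zpow_val]
    have h' := congrArg Units.val h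
    rw [Units.val_pow_eq_pow_val] at h'
    rw [← h']
    show ((∏ k, powHom (cartanMat chevE6 tblE6) z k ^ invThreeE6 ⟨0, by decide⟩ k : Lˣ) : L) = _
    rw [Units.coe_prod]
    simp only [Units.val_zpow_eq_zpow_val, hv]
    show ∏ k : Fin 6, χ (tblE6.simp' k) ^ invThreeE6 (0 : Fin 6) k = _
    rw [Fin.prod_univ_six]
    simp only [show tblE6.simp' 0 = 56 by decide +kernel, show tblE6.simp' 1 = 46 by decide +kernel,
      show tblE6.simp' 2 = 42 by decide +kernel, show tblE6.simp' 3 = 39 by decide +kernel,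
      show tblE6.simp' 4 = 37 by decide +kernel, show tblE6.simp' 5 = 36 by decide +kernel,
      Fin.val_zero, Fin.val_one, Fin.val_two, show ((3 : Fin 6) : ℕ) = 3 from rfl,
      show ((4 : Fin 6) : ℕ) = 4 from rfl, show ((5 : Fin 6) : ℕ) = 5 from rfl]
    rw [show invThreeE6 (0 : Fin 6) (0 : Fin 6) = ((4 : ℕ) : ℤ) from rfl,
      show invThreeE6 (0 : Fin 6) (1 : Fin 6) = ((3 : ℕ) : ℤ) from rfl,
      show invThreeE6 (0 : Fin 6) (2 : Fin 6) = ((5 : ℕ) : ℤ) from rfl,
      show invThreeE6 (0 : Fin 6) (3 : Fin 6) = ((6 : ℕ) : ℤ) from rfl,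
      show invThreeE6 (0 : Fin 6) (4 : Fin 6) = ((4 : ℕ) : ℤ) from rfl,
      show invThreeE6 (0 : Fin 6) (5 : Fin 6) = ((2 : ℕ) : ℤ) from rfl]
    simp only [zpow_natCast]
  have h15 : ∀ a : L, a ≠ 0 → a ^ 15 = 1 := fun a ha => by
    have h := pow_sixteen hL a
    rw [pow_succ] at h
    exact (mul_eq_right₀ ha).1 h
  have hC5 : Cv ^ 5 = 1 := by
    rw [h46, h39, e36, e37, one_pow, one_pow, mul_one, mul_one, ← hF, ← hC, ← pow_mul, ← pow_mul] at hz3
    have e : (Fv ^ (2 * 4) * Cv ^ (2 * 5) * Cv ^ 4 * Fv ^ 2) ^ 5 = Cv ^ 70 := by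
      rw [show (Fv ^ (2 * 4) * Cv ^ (2 * 5) * Cv ^ 4 * Fv ^ 2) ^ 5 = (Fv ^ 5) ^ 10 * Cv ^ 70 by ring, hF5, one_pow,
        one_mul]
    rw [← hz3, ← pow_mul, h15 _ (Units.ne_zero _)] at e
    calc Cv ^ 5 = Cv ^ 5 * Cv ^ 70 := by rw [← e, mul_one]
      _ = (Cv ^ 15) ^ 5 := by ring
      _ = 1 := by rw [h15 _ (hne 37), one_pow]
  have hCF : Cv = Fv ^ 2 := by rw [← hC3, ← pow_mul, pow_succ _ 5, hC5, one_mul]
  obtain ⟨i, -, hi⟩ := (zeta_order hy hL ▸ IsPrimitiveRoot.orderOf (y ^ 3) : IsPrimitiveRoot (y ^ 3) 5).eq_pow_of_pow_eq_one hF5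
  refine ⟨i, ?_⟩
  obtain ⟨z₁, hz₁⟩ := (torusHom_range certE6C (F := L)).symm ▸
    pow_mem (pair_diag hy (r := 56) (s := 36) (by norm_num) (by norm_num)) i
  have hval : ∀ k < 6, chr tblE6 chevE6 (extend' z) (tblE6.simp' k) = chr tblE6 chevE6 (extend' z₁) (tblE6.simp' k) := by
    intro k hk
    have hs : tblE6.simp' k < 72 := certE6C.spec.simp_lt k hk
    have h1 : chr tblE6 chevE6 (extend' z₁) (tblE6.simp' k) = (y ^ 3) ^ ((i : ℤ) * eI 1 0 (tblE6.simp' k)) := by
      have ha := Acts.pow hy hL (tt_acts hy hL 1 0) i (tblE6.simp' k) hs 1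
      simp only [tt, pow_one, pow_zero, mul_one] at ha
      have hb := torusHom_conj_xg certE6C z₁ hs 1
      rw [hz₁, mul_one] at hb
      exact xg_injective certE6C hs (hb.symm.trans (by simpa [tA] using ha))
    have he : ∀ m : ℕ, χ (tblE6.simp' k) = Fv ^ m → eI 1 0 (tblE6.simp' k) = m →
        χ (tblE6.simp' k) = chr tblE6 chevE6 (extend' z₁) (tblE6.simp' k) := fun m hm hm' => by
      rw [h1, hm', hm, ← hi, ← pow_mul, ← Nat.cast_mul, zpow_natCast]
    rcases (show k = 0 ∨ k = 1 ∨ k = 2 ∨ k = 3 ∨ k = 4 ∨ k = 5 by omega) with rfl | rfl | rfl | rfl | rfl | rfl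
    · exact he 2 (by rw [show tblE6.simp' 0 = 56 by decide +kernel]; exact e36) (by decide +kernel)
    · exact he 0 (by rw [show tblE6.simp' 1 = 46 by decide +kernel, h46, pow_zero]) (by decide +kernel)
    · exact he 4 (by rw [show tblE6.simp' 2 = 42 by decide +kernel, e37, hCF, ← pow_mul]) (by decide +kernel)
    · exact he 0 (by rw [show tblE6.simp' 3 = 39 by decide +kernel, h39, pow_zero]) (by decide +kernel)
    · exact he 2 (by rw [show tblE6.simp' 4 = 37 by decide +kernel]; exact hCF) (by decide +kernel)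
    · exact he 1 (by rw [show tblE6.simp' 5 = 36 by decide +kernel, pow_one]) (by decide +kernel)
  have hk : z / z₁ ∈ (torusHom chevE6 tblE6 L).ker := by
    rw [torusHom_ker certE6C, MonoidHom.mem_ker, map_div, div_eq_one]
    funext k
    refine Units.ext ?_
    have hv : ∀ c : Fin chevE6.rank → Lˣ, ((powHom (cartanMat chevE6 tblE6) c k : Lˣ) : L) =
        chr tblE6 chevE6 (extend' c) (tblE6.simp' k) := by
      intro c
      show ((∏ j, c j ^ cartanMat chevE6 tblE6 k j : Lˣ) : L) = _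
      rw [Units.coe_prod]
      simp only [chr]
      rw [← Fin.prod_univ_eq_prod_range (fun j => extend' c j ^ tblE6.cartan j (tblE6.simp' k)) chevE6.rank]
      exact Finset.prod_congr rfl fun j _ => by simp [extend', cartanMat, Units.val_zpow_eq_zpow_val]
    rw [hv, hv]
    exact hval k k.2
  rw [MonoidHom.mem_ker, map_div, div_eq_one] at hk
  rw [← hz, hk, hz₁, tA]

include hy hL in
/-- The normal form of the fixed elements of the centraliser of the first torus element. -/
theorem cent_form {c : GL chevE6.Idx L} (hc : c ∈ chevE6.group L) (hcomm : tA y * c = c * tA y)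
    (hfix : fA c = c) : ∃ i : ℕ, ∃ u ∈ levi L ⊓ chevE6.posUnipotent L, ∃ v ∈ stW,
      ∃ s ∈ levi L ⊓ chevE6.posUnipotent L, c = tA y ^ i * (u * wnu certE6C L v * s) := by
  haveI : Fact (Nat.Prime 2) := ⟨Nat.prime_two⟩
  have hd : tA y ∈ chevE6.diagonalSubgroup L := pair_diag hy (by norm_num) (by norm_num)
  obtain ⟨z, hz⟩ := (torusHom_range certE6C (F := L)).symm ▸ hd
  have hchr : ∀ x < 72, chr tblE6 chevE6 (extend' z) x = (y ^ 3) ^ eI 1 0 x := fun x hx => by
    have h := tt_acts hy hL 1 0 x hx 1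
    simp only [tt, pow_one, pow_zero, mul_one, Nat.cast_one, Nat.cast_zero] at h
    have h2 := torusHom_conj_xg certE6C z hx 1
    rw [hz, mul_one] at h2
    exact xg_injective certE6C hx (h2.symm.trans h)
  obtain ⟨w, hw, hwe, u, hu, d, hdd, s, hs, hsS, rfl⟩ := cent_decomp certE6C fullCertE6 (c := z) hc (by rw [hz]; exact hcomm)
  have he : ∀ x < 72, eI 1 0 (wperm tblE6 w x) = eI 1 0 x := fun x hx => by
    have h := hwe x hx
    have hx' : wperm tblE6 w x < 72 := wperm_lt certE6C hw hx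
    rw [hchr x hx, hchr _ hx', ← div_eq_one_iff_eq (zpow_ne_zero _ (zeta_ne hy)), ← zpow_sub₀ (zeta_ne hy)] at h
    have h5 := zeta_eq_one hy hL h
    have r1 : ∀ a, 0 ≤ eI 1 0 a ∧ eI 1 0 a < 5 := fun a =>
      ⟨Int.emod_nonneg _ (by norm_num), Int.emod_lt_of_pos _ (by norm_num)⟩
    have := r1 (wperm tblE6 w x)
    have := r1 x
    omega
  obtain ⟨v, hv, hwv⟩ := stab_word hw he
  have ewv : wnu certE6C L w = wnu certE6C L v :=
    wnu_eq_two certE6C fullCertE6 hw (fun i hi => stW_word v hv i hi) hwv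
  have hupos : u ∈ chevE6.posUnipotent L := by
    obtain ⟨t, -, rfl⟩ := hu
    rw [posUnipotent_eq certE6C]
    refine list_prod_mem fun x hx => ?_
    obtain ⟨r, hr, rfl⟩ := List.mem_map.1 hx
    exact xg_mem_upper certE6C (List.mem_range'_1.1 hr).1 _
  have hfu := fA_fixU hy hL hchr hu
  have hfs := fA_fixU hy hL hchr hs
  have hfd : fA d ∈ chevE6.diagonalSubgroup L :=
    (conj_mem_diag certE6C (wnu_mem certE6C word_five) (twSigma_diag certE6C symOKE6_gr _ hdd)).1
  have hfu' : fA u ∈ chevE6.posUnipotent L := hfu ▸ map_pos certE6C _ hupos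
  have hfs' : fA s ∈ signPart certE6C fullCertE6 L w true (chevE6.nroots / 2) :=
    hfs ▸ map_signPart certE6C _ fullCertE6 hsS
  rw [map_mul, map_mul, map_mul, ewv, fA_wnu_levi hv, ← ewv] at hfix
  obtain ⟨hb, hss⟩ := cell_unique certE6C (b := fA u * fA d) (b' := u * d) (n := wnu certE6C L w) (u := fA s) (u' := s)
    (mul_mem (Subgroup.mem_sup_left hfu') (Subgroup.mem_sup_right hfd))
    (mul_mem (Subgroup.mem_sup_left hupos) (Subgroup.mem_sup_right hdd))
    ((signPart_conj certE6C fullCertE6 hw).1 (mul_mem hsS (inv_mem hfs'))) hfix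
  obtain ⟨hu', hd'⟩ := borel_parts certE6C hfu' hupos hfd hdd hb
  obtain ⟨i, rfl⟩ := torus_fixed hy hL hdd hd'
  have hul := fixU_levi hy hL hchr hu hu'
  have hsl := fixU_levi hy hL hchr hs hss
  refine ⟨i, u, ⟨hul, hupos⟩, v, hv, s, ⟨hsl, ?_⟩, ?_⟩
  · rw [posUnipotent_eq certE6C]
    exact signPart_le_upper certE6C fullCertE6 w true _ hsS
  · rw [ewv, ← ((levi_comm hy hL hul).1.pow_left i).eq]
    group

include hy hL in
/-- The fixed elements of the centraliser of the first torus element. -/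
theorem cent_struct {c : GL chevE6.Idx L} (hc : c ∈ chevE6.group L) (hcomm : tA y * c = c * tA y)
    (hfix : fA c = c) : ∃ i : ℕ, ∃ s ∈ levi L, c = tA y ^ i * s := by
  obtain ⟨i, u, hu, v, hv, s, hs, e⟩ := cent_form hy hL hc hcomm hfix
  exact ⟨i, u * wnu certE6C L v * s, mul_mem (mul_mem hu.1 (wnu_levi hv)) hs.1, e⟩

end Cfsg.Lib.Chev.TwE6Five
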