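import Cfsg.Agent.Lib.Chev.TwE6Five.Two

/-! Finite data on the root system of type E6 for the elements of order five of ²E₆(2). -/

set_option autoImplicit false
set_option maxRecDepth 100000

namespace Cfsg.Lib.Chev.TwE6Five

open Cfsg.Lie

/-- The roots of the Levi subsystem of type A3. -/
def ptL : List ℕ :=
  [0, 1, 2, 24, 25, 32, 39, 46, 47, 69, 70, 71]

/-- Its positive roots. -/
def posL : List ℕ :=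
  [39, 46, 47, 69, 70, 71]

/-- Root vectors spanning a natural module of it. -/
def comL : List ℕ :=
  [3, 37, 40, 48]

/-- Its fundamental reflections. -/
def refA : List (List ℕ × ℕ) :=
  [([], 3), ([], 1), ([4, 5, 2, 3, 4, 1, 3, 2], 0)]

/-- The elements of its Weyl group. -/
def stW : List (List ℕ) :=
  [[], [3], [1], [4, 2, 3, 0, 2, 1, 3, 4, 5, 4, 3, 2, 1, 3, 4, 0, 2], [1, 3], [4, 2, 3, 0, 2, 1, 3, 4, 5, 4, 3,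
  2, 1, 3, 4, 0, 2, 3], [3, 1], [4, 2, 3, 0, 2, 1, 3, 4, 5, 4, 3, 2, 1, 3, 4, 0, 2, 1], [3, 4, 2, 3, 0, 2, 1,
  3, 4, 5, 4, 3, 2, 1, 3, 4, 0, 2], [1, 3, 1], [4, 2, 3, 0, 2, 1, 3, 4, 5, 4, 3, 2, 1, 3, 4, 0, 2, 1, 3], [3,
  4, 2, 3, 0, 2, 1, 3, 4, 5, 4, 3, 2, 1, 3, 4, 0, 2, 3], [4, 2, 3, 0, 2, 1, 3, 4, 5, 4, 3, 2, 1, 3, 4, 0, 2, 3,
  1], [3, 4, 2, 3, 0, 2, 1, 3, 4, 5, 4, 3, 2, 1, 3, 4, 0, 2, 1], [1, 3, 4, 2, 3, 0, 2, 1, 3, 4, 5, 4, 3, 2, 1,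
  3, 4, 0, 2], [4, 2, 3, 0, 2, 1, 3, 4, 5, 4, 3, 2, 1, 3, 4, 0, 2, 1, 3, 1], [3, 4, 2, 3, 0, 2, 1, 3, 4, 5, 4,
  3, 2, 1, 3, 4, 0, 2, 1, 3], [1, 3, 4, 2, 3, 0, 2, 1, 3, 4, 5, 4, 3, 2, 1, 3, 4, 0, 2, 3], [3, 4, 2, 3, 0, 2,
  1, 3, 4, 5, 4, 3, 2, 1, 3, 4, 0, 2, 3, 1], [1, 3, 4, 2, 3, 0, 2, 1, 3, 4, 5, 4, 3, 2, 1, 3, 4, 0, 2, 1], [3,
  4, 2, 3, 0, 2, 1, 3, 4, 5, 4, 3, 2, 1, 3, 4, 0, 2, 1, 3, 1], [1, 3, 4, 2, 3, 0, 2, 1, 3, 4, 5, 4, 3, 2, 1, 3,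
  4, 0, 2, 1, 3], [1, 3, 4, 2, 3, 0, 2, 1, 3, 4, 5, 4, 3, 2, 1, 3, 4, 0, 2, 3, 1], [1, 3, 4, 2, 3, 0, 2, 1, 3,
  4, 5, 4, 3, 2, 1, 3, 4, 0, 2, 1, 3, 1]]

/-- The same elements in its fundamental reflections. -/
def stI : List (List ℕ) :=
  [[], [0], [1], [2], [1, 0], [2, 0], [0, 1], [2, 1], [0, 2], [0, 1, 0], [2, 1, 0], [0, 2, 0], [2, 0, 1], [0, 2,
  1], [1, 0, 2], [2, 0, 1, 0], [0, 2, 1, 0], [1, 0, 2, 0], [0, 2, 0, 1], [1, 0, 2, 1], [0, 2, 0, 1, 0], [1, 0,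
  2, 1, 0], [1, 0, 2, 0, 1], [1, 0, 2, 0, 1, 0]]

/-- Words moving the first torus element. -/
def clW : List (ℕ × ℕ × List ℕ) :=
  [(0, 1, [4, 2, 3, 0, 2, 1, 3, 4, 0, 2]), (0, 2, [2, 1, 3, 4, 5, 1, 3, 4, 1, 3, 2, 1]), (0, 3, [2, 3, 4, 5, 1,
  3, 4, 1, 3, 2, 1, 0]), (0, 4, [4, 2, 3, 0, 2, 1, 3, 4, 5, 0, 2, 0]), (1, 0, []), (1, 1, [5, 4, 3, 2, 1, 3, 4,
  5, 2, 3, 4, 3, 0]), (1, 2, [5, 0, 2, 1, 3, 4, 0, 2, 1, 3, 0, 2, 0]), (1, 3, [2, 1, 3, 4, 5, 0, 2, 1, 3, 0,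
  2]), (1, 4, [1, 3, 4, 5, 3, 0, 2, 1, 3, 4, 3]), (2, 0, [0, 2, 3, 4, 5, 0, 2, 3, 4, 2, 3, 0, 2, 1]), (2, 1,
  [2, 3, 4, 5, 4, 0, 2, 1, 3, 0, 2, 1, 0]), (2, 2, [3, 4, 5, 4, 3, 0, 2, 1, 3, 4, 3, 1, 0]), (2, 3, [4, 3, 2,
  1, 3, 4, 5, 3, 4, 3, 1]), (2, 4, [0, 2, 3, 4, 0, 2, 1, 3, 0, 2, 1]), (3, 0, [2, 3, 4, 5, 0, 2, 3, 4, 2, 3, 0,
  2, 1, 0]), (3, 1, [0, 2, 3, 4, 5, 0, 2, 1, 3, 0, 2, 1, 0]), (3, 2, [3, 4, 5, 3, 2, 1, 3, 4, 3, 1, 0]), (3, 3,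
  [5, 4, 3, 0, 2, 1, 3, 4, 5, 3, 4, 3, 1]), (3, 4, [5, 2, 3, 4, 0, 2, 1, 3, 0, 2, 1]), (4, 0, [5, 0]), (4, 1,
  [4, 3, 0, 2, 1, 3, 4, 5, 2, 3, 4, 3, 0]), (4, 2, [2, 1, 3, 4, 0, 2, 1, 3, 0, 2, 0]), (4, 3, [0, 2, 1, 3, 4,
  5, 4, 0, 2, 1, 3, 0, 2]), (4, 4, [1, 3, 4, 5, 4, 3, 2, 1, 3, 4, 3])]

/-- A word carrying the first fundamental root to the highest root. -/
def wB : List ℕ :=
  [4, 5, 2, 3, 4, 1, 3, 2]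

/-- The twisting element of the torus of order 25. -/
def nW : List ℕ :=
  [5, 4, 5, 2, 3, 4, 1, 3, 2, 0, 2, 3, 1, 4, 3, 2, 5, 4, 3, 1, 3, 3, 4, 5, 2, 3, 4, 1, 3, 2, 0, 2, 3, 1, 4, 3, 2,
  5, 4, 3]

/-- The longest word. -/
def longW : List ℕ :=
  [0, 2, 3, 4, 5, 1, 3, 4, 2, 3, 0, 2, 1, 3, 4, 5, 1, 3, 4, 2, 3, 0, 2, 1, 3, 4, 2, 3, 0, 2, 1, 3, 0, 2, 1, 0]

/-- The order of the fundamental roots in the search. -/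
def ordL : List ℕ :=
  [3, 2, 0, 4, 5, 1]

/-- The shifted codes of the roots, packed. -/
def keyP : ℕ :=
  0x20a69120a68920a48920948920148920a44920944920144920924920124920024920924120124120024120004120000120a4482094482014482092482012482002482092082012082002082000082092402012402002402000402092002012002002002090002010002080001f80001ff0001f70001ffe001fee001f6e001fffc01ffdc01fedc01f6dc01ffff81ffdf81fedf81f6df81ffdb81fedb81f6db81febb81f6bb81f5bb81fffff1fffbf1ffdbf1fedbf1f6dbf1ffdb71fedb71f6db71febb71f6bb71f5bb71feb771f6b771f5b771f59771f596f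

/-- The positive roots by their last fundamental root, with exponent, shift and coefficients. -/
def rowsL : List (List (ℕ × ℕ × ℕ × List ℕ)) :=
  [[(39, 0, 0, [1])],
   [(42, 4, 0, [0, 1]),
    (43, 4, 2097152, [1, 1])],
   [(56, 2, 0, [0, 0, 1]),
    (57, 1, 2097152, [0, 1, 1]),
    (58, 1, 4194304, [1, 1, 1])],
   [(37, 2, 0, [0, 0, 0, 1]),
    (40, 2, 2097152, [1, 0, 0, 1]),
    (44, 1, 4194304, [1, 1, 0, 1]),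
    (59, 3, 6291456, [1, 1, 1, 1])],
   [(36, 1, 0, [0, 0, 0, 0, 1]),
    (38, 3, 2097152, [0, 0, 0, 1, 1]),
    (41, 3, 4194304, [1, 0, 0, 1, 1]),
    (45, 2, 6291456, [1, 1, 0, 1, 1]),
    (60, 4, 8388608, [1, 1, 1, 1, 1])],
   [(46, 0, 0, [0, 0, 0, 0, 0, 1]),
    (47, 0, 2097152, [1, 0, 0, 0, 0, 1]),
    (48, 2, 4194304, [1, 0, 0, 1, 0, 1]),
    (49, 3, 6291456, [1, 0, 0, 1, 1, 1]),
    (50, 4, 4194304, [1, 1, 0, 0, 0, 1]),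
    (51, 1, 6291456, [1, 1, 0, 1, 0, 1]),
    (52, 2, 8388608, [1, 1, 0, 1, 1, 1]),
    (53, 1, 8388608, [2, 1, 0, 1, 0, 1]),
    (54, 2, 10485760, [2, 1, 0, 1, 1, 1]),
    (55, 4, 12582912, [2, 1, 0, 2, 1, 1]),
    (61, 1, 6291456, [1, 1, 1, 0, 0, 1]),
    (62, 3, 8388608, [1, 1, 1, 1, 0, 1]),
    (63, 4, 10485760, [1, 1, 1, 1, 1, 1]),
    (64, 3, 10485760, [2, 1, 1, 1, 0, 1]),
    (65, 4, 12582912, [2, 1, 1, 1, 1, 1]),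
    (66, 1, 14680064, [2, 1, 1, 2, 1, 1]),
    (67, 2, 12582912, [2, 2, 1, 1, 0, 1]),
    (68, 3, 14680064, [2, 2, 1, 1, 1, 1]),
    (69, 0, 16777216, [2, 2, 1, 2, 1, 1]),
    (70, 0, 18874368, [3, 2, 1, 2, 1, 1]),
    (71, 0, 20971520, [3, 2, 1, 2, 1, 2])]]

/-- The roots by their exponent. -/
def eL : List (List ℕ) :=
  [[0, 1, 2, 24, 25, 32, 39, 46, 47, 69, 70, 71], [6, 8, 11, 16, 21, 28, 29, 36, 44, 51, 53, 57, 58, 61, 66], [3,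
  7, 9, 12, 22, 30, 33, 37, 40, 45, 48, 52, 54, 56, 67], [4, 15, 17, 19, 23, 26, 31, 34, 38, 41, 49, 59, 62,
  64, 68], [5, 10, 13, 14, 18, 20, 27, 35, 42, 43, 50, 55, 60, 63, 65]]

/-- The shifted codes of these roots. -/
def keyL : List (List ℕ) :=
  [[2054511, 2054519, 2055031, 2096632, 2097144, 2096640, 2097664, 2097160, 2097672, 2139273, 2139785, 2139793],
  [2059191, 2059703, 2059711, 2055096, 2096568, 2096576, 2097088, 2129920, 2101824, 2101832, 2102344, 2097217,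
  2097729, 2097737, 2139209], [2059127, 2091959, 2092471, 2092479, 2059768, 2059776, 2060288, 2101248, 2101760,
  2134592, 2101768, 2134600, 2135112, 2097153, 2102409], [2091895, 2097151, 2059192, 2059704, 2092536, 2059712,
  2092544, 2093056, 2134016, 2134528, 2134536, 2101825, 2101833, 2102345, 2135177], [2055095, 2096567, 2096575,
  2097087, 2091960, 2092472, 2092480, 2064384, 2097216, 2097728, 2097736, 2139208, 2134593, 2134601, 2135113]]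

end Cfsg.Lib.Chev.TwE6Five
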