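import Cfsg.Agent.Lib.Chev.TwE6Five.Field
import Cfsg.Agent.Lib.Chev.TrialityLang

/-! The fixed points of the twisting over the field with 16 elements. -/

set_option autoImplicit false
set_option maxRecDepth 10000
set_option linter.unusedSectionVars false

namespace Cfsg.Lib.Chev.TwE6Five

open Cfsg.Lie

variable {L : Type*} [Field L] [CharP L 2]

/-- The twisting over an extension field. -/
noncomputable def sg (g : GL chevE6.Idx L) : GL chevE6.Idx L :=
  haveI : Fact (Nat.Prime 2) := ⟨Nat.prime_two⟩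
  twSigma symOKE6_gr (frobenius L 2) g

omit [CharP L 2] in
theorem sym_root_twice : ∀ r < 72, symE6_1.root (symE6_1.root r) = r := by decide +kernel

theorem sg_mul (a b : GL chevE6.Idx L) : sg (a * b) = sg a * sg b := twSigma_mul symOKE6_gr _ a b

theorem sg_one : sg (1 : GL chevE6.Idx L) = 1 := twSigma_one symOKE6_gr _

theorem sg_inv (a : GL chevE6.Idx L) : sg a⁻¹ = (sg a)⁻¹ :=
  eq_inv_of_mul_eq_one_left (by rw [← sg_mul, inv_mul_cancel, sg_one])

theorem sg_xg {r : ℕ} (hr : r < 72) (t : L) :
    sg (xg certE6C r t) = xg certE6C (symE6_1.root r) (t ^ 2) := by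
  haveI : Fact (Nat.Prime 2) := ⟨Nat.prime_two⟩
  rw [sg, sig_xg certE6C symOKE6_gr _ hr, frobenius_def]

theorem sg_sq {x : GL chevE6.Idx L} (hx : x ∈ chevE6.group L) :
    sg (sg x) = Matrix.GeneralLinearGroup.map (iterateFrobenius L 2 2) x := by
  induction hx using Subgroup.closure_induction with
  | mem g hg =>
    obtain ⟨r, t, e⟩ := hg
    rw [eq_xg certE6C (r := r.1) (t := t) (e.trans (by rw [ChevalleyDatum.x, dif_pos r.2]))]
    rw [sg_xg r.2, sg_xg (symOKE6_gr.root_lt r.1 r.2), map_xg, sym_root_twice r.1 r.2, iterateFrobenius_def]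
    congr 1
    ring
  | one => rw [sg_one, sg_one, map_one]
  | mul a b _ _ ha hb => rw [sg_mul, sg_mul, ha, hb, map_mul]
  | inv a _ ha => rw [sg_inv, sg_inv, ha, map_inv]

variable {K : Type*} [Field K] [Fintype K] (hK : Fintype.card K = 4) [Fintype L] (hL : Fintype.card L = 16)
  (ι : K →+* L)
include hK hL

theorem fixed_four_iff (t : L) : iterateFrobenius L 2 2 t = t ↔ t ∈ ι.range := by
  classical
  rw [iterateFrobenius_def]
  refine ⟨fun ht => ?_, ?_⟩
  · let P : Polynomial L := Polynomial.X ^ 4 - Polynomial.X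
    have hP : P ≠ 0 := FiniteField.X_pow_card_sub_X_ne_zero L (by norm_num)
    have hsub : Finset.univ.image ι ⊆ P.roots.toFinset := fun x hx => by
      obtain ⟨y, -, rfl⟩ := Finset.mem_image.1 hx
      rw [Multiset.mem_toFinset, Polynomial.mem_roots hP]
      simp [P, ← map_pow, ← hK, FiniteField.pow_card]
    have heq := Finset.eq_of_subset_of_card_le hsub (by
      rw [Finset.card_image_of_injective _ ι.injective, Finset.card_univ, hK]
      exact (Multiset.toFinset_card_le _).trans ((Polynomial.card_roots' P).trans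
        (FiniteField.X_pow_card_sub_X_natDegree_eq L (by norm_num)).le))
    have htm : t ∈ P.roots.toFinset := by
      rw [Multiset.mem_toFinset, Polynomial.mem_roots hP]
      norm_num at ht
      simp [P, ht]
    rw [← heq] at htm
    obtain ⟨y, -, e⟩ := Finset.mem_image.1 htm
    exact ⟨y, e⟩
  · rintro ⟨y, rfl⟩
    rw [← map_pow, show (2 : ℕ) ^ 2 = Fintype.card K by rw [hK]; norm_num, FiniteField.pow_card]

theorem sg_map {f : K →+* K} (hf : ∀ t, f t = t ^ 2) (x : GL chevE6.Idx K) :
    Matrix.GeneralLinearGroup.map ι (twSigma symOKE6_gr f x) = sg (Matrix.GeneralLinearGroup.map ι x) :=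
  twSigma_map' symOKE6_gr ι f _ (fun t => by rw [frobenius_def, hf, map_pow]) x

/-- The fixed points over the larger field are the elements of ²E₆(2). -/
theorem descend {x : GL chevE6.Idx L} (hx : x ∈ chevE6.group L) (hfix : sg x = x) :
    ∃ g ∈ Cfsg.Lie.twistedE6 K 2, Matrix.GeneralLinearGroup.map ι g = x := by
  obtain ⟨f, h, hf, e⟩ := twistedE6_eq_fixed hK
  set σ := iterateFrobenius L 2 2 with hσ
  have h2 : Matrix.GeneralLinearGroup.map σ x = x := by rw [hσ, ← sg_sq hx, hfix, hfix]
  obtain ⟨u, hu, v, hv, d, hd, hd', hxd⟩ := fixed_decomp certE6C σ fullCertE6 hx h2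
  have hdF : d ∈ fixedRoots certE6C σ := by
    rw [← torusHom_range certE6C] at hd
    obtain ⟨c, rfl⟩ := hd
    rw [map_torusHom certE6C] at hd'
    have hker : (fun i => Units.map σ.toMonoidHom (c i) / c i) ∈ (torusHom chevE6 tblE6 L).ker := by
      rw [MonoidHom.mem_ker]
      show torusHom chevE6 tblE6 L ((fun i => Units.map σ.toMonoidHom (c i)) / c) = 1
      rw [map_div, hd', div_self']
    rw [torusHom_eq_prod certE6C c List.nodup_range (fun i => List.mem_range.1) (fun i hi => List.mem_range.2 hi)]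
    refine list_prod_mem fun z hz => ?_
    obtain ⟨i, hi, rfl⟩ := List.mem_map.1 hz
    have hi' := List.mem_range.1 hi
    have hc : σ (extend' c i) = extend' c i := by
      simp only [extend', dif_pos hi']
      set z : Lˣ := c ⟨i, hi'⟩ with hzdef
      have h3 := kerE6_cube hker ⟨i, hi'⟩
      have e4 : Units.map σ.toMonoidHom z = z ^ 4 := Units.ext (by simp [hσ, iterateFrobenius_def])
      change (Units.map σ.toMonoidHom z / z) ^ 3 = 1 at h3
      rw [e4, show z ^ 4 / z = z ^ 3 by rw [div_eq_mul_inv, pow_succ, mul_inv_cancel_right], ← pow_mul] at h3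
      have h15 : z ^ 15 = 1 := by
        have := pow_card_eq_one' (x := z)
        rwa [Nat.card_units, Nat.card_eq_fintype_card, hL] at this
      have hz3 : z ^ 3 = 1 := by
        have := pow_gcd_eq_one.2 ⟨h3, h15⟩
        simpa using this
      have := congrArg Units.val e4
      rw [pow_succ, hz3, one_mul] at this
      simpa using this
    exact mul_mem (ng_mem_fixedRoots certE6C σ hc) (ng_mem_fixedRoots certE6C σ (by rw [map_neg, map_one]))
  have hmem : x ∈ fixedRoots certE6C σ := by rw [hxd]; exact mul_mem (mul_mem hu hdF) hv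
  rw [fixedRoots_eq_map certE6C σ ι (fixed_four_iff hK hL ι)] at hmem
  obtain ⟨g, hg, rfl⟩ := hmem
  refine ⟨g, ?_, rfl⟩
  rw [e]
  refine ⟨hg, map_gl_injective ι ?_⟩
  rw [sg_map hK hL ι hf, hfix]

theorem ascend {g : GL chevE6.Idx K} (hg : g ∈ Cfsg.Lie.twistedE6 K 2) :
    Matrix.GeneralLinearGroup.map ι g ∈ chevE6.group L ∧
      sg (Matrix.GeneralLinearGroup.map ι g) = Matrix.GeneralLinearGroup.map ι g := by
  obtain ⟨f, h, hf, e⟩ := twistedE6_eq_fixed hK
  rw [e] at hg
  exact ⟨map_group_le certE6C ι hg.1, by rw [← sg_map hK hL ι hf, hg.2]⟩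

end Cfsg.Lib.Chev.TwE6Five
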