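import Cfsg.Agent.Lib.Chev.TwE6Five.Descend
import Cfsg.Agent.Lib.Chev.TwE6Five.Checks

/-! The torus of order 25 and the elements conjugating it into ²E₆(2). -/

set_option autoImplicit false
set_option maxRecDepth 100000
set_option linter.unusedSectionVars false

namespace Cfsg.Lib.Chev.TwE6Five

open Cfsg.Lie
open Cfsg.Lib.Chev.TwMult (rHom PairComm rHom_commute rHom_tri rHom_rot rHom_mem)
open scoped MatrixGroups

/-- The root groups of two roots and their negatives commute. -/
noncomputable def orthChk (r s : ℕ) : Bool :=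
  [(r, s), (r, tblE6.neg s), (tblE6.neg r, s), (tblE6.neg r, tblE6.neg s)].all fun p =>
    Nat.blt p.1 72 && (Nat.blt p.2 72 && (!Nat.beq p.2 p.1 && (!Nat.beq p.2 (tblE6.neg p.1) &&
      (tTerms tblE6 p.1 p.2).isEmpty)))

variable {L : Type*} [Field L] [CharP L 2]

omit [CharP L 2] in
theorem pairComm_of {r s : ℕ} (h : orthChk r s = true) : PairComm certE6C L r s := by
  have key : ∀ p ∈ [(r, s), (r, tblE6.neg s), (tblE6.neg r, s), (tblE6.neg r, tblE6.neg s)], ∀ t u : L,
      Commute (xg certE6C p.1 t) (xg certE6C p.2 u) := by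
    intro p hp t u
    have hb := List.all_eq_true.1 h p hp
    simp only [Bool.and_eq_true, Nat.blt_eq, Bool.not_eq_true', List.isEmpty_iff] at hb
    obtain ⟨h1, h2, h3, h4, h5⟩ := hb
    exact xg_commute certE6C fullCertE6.comm h1 h2 (fun e => by rw [e, Nat.beq_refl] at h3; exact Bool.noConfusion h3)
      (fun e => by rw [e, Nat.beq_refl] at h4; exact Bool.noConfusion h4) h5 t u
  exact fun t u => ⟨key (r, s) (by simp) t u, key (r, tblE6.neg s) (by simp) t u,
    key (tblE6.neg r, s) (by simp) t u, key (tblE6.neg r, tblE6.neg s) (by simp) t u⟩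

theorem orth_ok : [(56, 36), (46, 69), (47, 70), (56, 46), (56, 69), (56, 47), (56, 70), (36, 46), (36, 69),
    (36, 47), (36, 70)].all (fun p => orthChk p.1 p.2) = true := by decide +kernel

omit [CharP L 2] in
theorem rh_comm {r s : ℕ} (h : (r, s) ∈ [(56, 36), (46, 69), (47, 70), (56, 46), (56, 69), (56, 47), (56, 70),
    (36, 46), (36, 69), (36, 47), (36, 70)]) (hr : r < 72) (hs : s < 72) (a b : SL(2, L)) :
    Commute (rHom certE6C r a) (rHom certE6C s b) :=
  rHom_commute certE6C hr hs (pairComm_of (List.all_eq_true.1 orth_ok _ h)) a b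

/-- The squaring on SL(2). -/
noncomputable def fS (g : SL(2, L)) : SL(2, L) :=
  haveI : Fact (Nat.Prime 2) := ⟨Nat.prime_two⟩
  Matrix.SpecialLinearGroup.map (frobenius L 2) g

theorem fS_val (g : SL(2, L)) (i j : Fin 2) : (fS g).1 i j = g.1 i j ^ 2 := by
  haveI : Fact (Nat.Prime 2) := ⟨Nat.prime_two⟩
  simp [fS, frobenius_def]

theorem sg_rh {r : ℕ} (hr : r < 72) (g : SL(2, L)) :
    sg (rHom certE6C r g) = rHom certE6C (symE6_1.root r) (fS g) := by
  haveI : Fact (Nat.Prime 2) := ⟨Nat.prime_two⟩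
  exact sig_rHom certE6C symOKE6_gr _ hr g

theorem sym_vals : symE6_1.root 56 = 36 ∧ symE6_1.root 36 = 56 ∧ symE6_1.root 46 = 46 ∧ symE6_1.root 69 = 69 ∧
    symE6_1.root 47 = 47 ∧ symE6_1.root 70 = 70 := by decide +kernel

variable {y : L} (hy : y ^ 4 = y + 1)

theorem y_ne_zero (hy : y ^ 4 = y + 1) : y ≠ 0 := by rintro rfl; simp at hy

/-- The matrix with conjugate rows for the field with 16 elements. -/
noncomputable def matB (hy : y ^ 4 = y + 1) : SL(2, L) :=
  ⟨!![1, 1; y, y ^ 4], by rw [Matrix.det_fin_two_of, hy]; ring⟩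

theorem fifth_quad (hy : y ^ 4 = y + 1) : (y ^ 5) ^ 2 - y ^ 5 = 1 := by
  have h2 : (2 : L) = 0 := CharTwo.two_eq_zero
  linear_combination (y ^ 6 + y ^ 3 + y ^ 2 - y + 1) * hy + (y ^ 3) * h2

/-- The matrix with conjugate rows for the field with four elements. -/
noncomputable def matM (hy : y ^ 4 = y + 1) : SL(2, L) :=
  ⟨!![1, 1; y ^ 5, (y ^ 5) ^ 2], by rw [Matrix.det_fin_two_of, one_mul, one_mul, fifth_quad hy]⟩

theorem neg_one_L : (-1 : L) = 1 := CharTwo.neg_eq 1

variable [Fintype L] (hL : Fintype.card L = 16)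

theorem pow_sixteen (hL : Fintype.card L = 16) (z : L) : z ^ 16 = z := by rw [← hL]; exact FiniteField.pow_card z

theorem fS_B (hy : y ^ 4 = y + 1) (hL : Fintype.card L = 16) : fS (fS (matB hy)) = matB hy * SLTwoRel.rot := by
  have h16 := pow_sixteen hL y
  refine Subtype.ext ?_
  ext i j
  rw [fS_val, fS_val, Matrix.SpecialLinearGroup.coe_mul, SLTwoRel.coe_rot]
  fin_cases i <;> fin_cases j <;>
    simp [matB, Matrix.mul_apply, Fin.sum_univ_two, neg_one_L, ← pow_mul, h16, CharTwo.neg_eq]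

theorem fS_M (hy : y ^ 4 = y + 1) (hL : Fintype.card L = 16) : fS (matM hy) = matM hy * SLTwoRel.rot := by
  have h20 : y ^ 20 = y ^ 5 := by
    rw [show y ^ 20 = y ^ 16 * y ^ 4 by ring, pow_sixteen hL y]; ring
  refine Subtype.ext ?_
  ext i j
  rw [fS_val, Matrix.SpecialLinearGroup.coe_mul, SLTwoRel.coe_rot]
  fin_cases i <;> fin_cases j <;>
    simp [matM, Matrix.mul_apply, Fin.sum_univ_two, neg_one_L, ← pow_mul, h20, CharTwo.neg_eq]

/-- The conjugating element of the first torus. -/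
noncomputable def gA (hy : y ^ 4 = y + 1) : GL chevE6.Idx L :=
  rHom certE6C 56 (fS (matB hy)) * rHom certE6C 36 (matB hy)

/-- The element exchanging the two roots of the second torus up to the twisting. -/
noncomputable def kk (hy : y ^ 4 = y + 1) : GL chevE6.Idx L :=
  rHom certE6C 47 (matM hy) * rHom certE6C 70 (matM hy)

/-- The conjugating element of the second torus. -/
noncomputable def gB (hy : y ^ 4 = y + 1) : GL chevE6.Idx L :=
  rHom certE6C 46 (fS (matB hy)) * rHom certE6C 69 (matB hy)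

/-- The conjugating element. -/
noncomputable def g2 (hy : y ^ 4 = y + 1) : GL chevE6.Idx L := gA hy * kk hy * gB hy

omit [CharP L 2] [Fintype L] in
theorem rh_mem {r : ℕ} (hr : r < 72) (g : SL(2, L)) : rHom certE6C r g ∈ chevE6.group L := by
  refine (Subgroup.closure_le _).2 ?_ (rHom_mem certE6C hr g)
  rintro x (⟨t, rfl⟩ | ⟨t, rfl⟩) <;> exact xg_mem_group certE6C _ _

theorem word_five : IsWord chevE6 [5] := fun i hi => by
  rw [List.mem_singleton] at hi; subst hi; decide

theorem word_nW : IsWord chevE6 nW := fun i hi => (show ∀ i ∈ nW, i < 6 by decide +kernel) i hi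

omit [CharP L 2] [Fintype L] in
theorem wnu_mem_group' {w : List ℕ} (hw : IsWord chevE6 w) : wnu certE6C L w ∈ chevE6.group L :=
  monomial_le_group certE6C (wnu_mem certE6C hw)

theorem gA_mem : gA hy ∈ chevE6.group L := mul_mem (rh_mem (by norm_num) _) (rh_mem (by norm_num) _)

theorem g2_mem : g2 hy ∈ chevE6.group L :=
  mul_mem (mul_mem (gA_mem hy) (mul_mem (rh_mem (by norm_num) _) (rh_mem (by norm_num) _)))
    (mul_mem (rh_mem (by norm_num) _) (rh_mem (by norm_num) _))

theorem wnu_five : wnu certE6C L [5] = ng certE6C 36 (1 : L) := by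
  simp [wnu, nu, show tblE6.simp' 5 = 36 by decide +kernel]

theorem ng_words : ng certE6C 69 (1 : L) = wnu certE6C L (refWord (wB, 0)) ∧
    ng certE6C 47 (1 : L) = wnu certE6C L (refWord ([3], 1)) ∧
    ng certE6C 70 (1 : L) = wnu certE6C L (refWord (3 :: wB, 0)) := by
  obtain ⟨-, h1, h2, h3, hw⟩ := nW_parts
  exact ⟨ng_eq_wnu certE6C fullCertE6 (fun i hi => hw i (List.mem_cons_of_mem _ hi)) (by decide) h1,
    ng_eq_wnu certE6C fullCertE6 (fun i hi => by rw [List.mem_singleton] at hi; subst hi; decide) (by decide) h2,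
    ng_eq_wnu certE6C fullCertE6 hw (by decide) h3⟩

theorem sg_gA (hL : Fintype.card L = 16) : sg (gA hy) = gA hy * wnu certE6C L [5] := by
  obtain ⟨s1, s2, -⟩ := sym_vals
  rw [gA, sg_mul, sg_rh (by norm_num), sg_rh (by norm_num), s1, s2, fS_B hy hL, map_mul, rHom_rot certE6C (by decide),
    wnu_five]
  have h := rh_comm (r := 56) (s := 36) (List.mem_cons_self ..) (by norm_num) (by norm_num) (fS (matB hy))
    (matB hy * SLTwoRel.rot)
  rw [map_mul, rHom_rot certE6C (by decide)] at h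
  rw [← h.eq, mul_assoc]

theorem comm_five {r : ℕ} (hr : r < 72) (hfix : wperm tblE6 [5] r = r) (g : SL(2, L)) :
    Commute (wnu certE6C L [5]) (rHom certE6C r g) := by
  have h := wnu_conj_rHom certE6C word_five hr g
  rw [hfix] at h
  exact mul_inv_eq_iff_eq_mul.1 h

theorem nW_prod : wnu certE6C L nW =
    wnu certE6C L [5] * ng certE6C 69 (1 : L) * (ng certE6C 47 (1 : L) * ng certE6C 70 (1 : L)) := by
  obtain ⟨e1, e2, e3⟩ := ng_words (L := L)
  rw [nW_parts.1, wnu_append, wnu_append, wnu_append, ← e1, ← e2, ← e3, mul_assoc]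

theorem sg_g2 (hL : Fintype.card L = 16) : sg (g2 hy) = g2 hy * wnu certE6C L nW := by
  obtain ⟨-, -, s3, s4, s5, s6⟩ := sym_vals
  obtain ⟨-, f46, f69, f47, f70, x46, x69⟩ := perm_facts
  obtain ⟨-, e47, e70⟩ := ng_words (L := L)
  set M := matM hy with hM
  set B := matB hy with hB
  set n := wnu certE6C L [5] with hn
  have hrot : ∀ r, r < 72 → rHom certE6C r (SLTwoRel.rot : SL(2, L)) = ng certE6C r 1 :=
    fun r hr => rHom_rot certE6C hr
  have hk : sg (kk hy) = kk hy * (ng certE6C 47 (1 : L) * ng certE6C 70 (1 : L)) := by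
    have h := rh_comm (r := 47) (s := 70) (by simp) (by norm_num) (by norm_num) (SLTwoRel.rot : SL(2, L)) M
    rw [hrot 47 (by norm_num)] at h
    rw [kk, sg_mul, sg_rh (by norm_num), sg_rh (by norm_num), s5, s6, fS_M hy hL, map_mul, map_mul,
      hrot 47 (by norm_num), hrot 70 (by norm_num), ← hM]
    simp only [mul_assoc, ← h.left_comm]
  set v0 := ng certE6C 47 (1 : L) * ng certE6C 70 (1 : L) with hv0
  have hw0 : IsWord chevE6 (refWord ([3], 1) ++ refWord (3 :: wB, 0)) :=
    fun i hi => (show ∀ i ∈ refWord ([3], 1) ++ refWord (3 :: wB, 0), i < 6 by decide +kernel) i hi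
  have c46 : ∀ g : SL(2, L), v0 * rHom certE6C 46 g * v0⁻¹ = rHom certE6C 69 g := fun g => by
    rw [hv0, e47, e70, ← wnu_append, wnu_conj_rHom certE6C hw0 (by decide) g, x46]
  have c69 : ∀ g : SL(2, L), v0 * rHom certE6C 69 g * v0⁻¹ = rHom certE6C 46 g := fun g => by
    rw [hv0, e47, e70, ← wnu_append, wnu_conj_rHom certE6C hw0 (by decide) g, x69]
  have hb : v0 * sg (gB hy) * v0⁻¹ = gB hy * ng certE6C 69 (1 : L) := by
    have h := rh_comm (r := 46) (s := 69) (by simp) (by norm_num) (by norm_num) (fS B) (B * SLTwoRel.rot)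
    rw [gB, sg_mul, sg_rh (by norm_num), sg_rh (by norm_num), s3, s4, fS_B hy hL,
      show v0 * (rHom certE6C 46 (B * SLTwoRel.rot) * rHom certE6C 69 (fS B)) * v0⁻¹ =
        (v0 * rHom certE6C 46 (B * SLTwoRel.rot) * v0⁻¹) * (v0 * rHom certE6C 69 (fS B) * v0⁻¹) by group,
      c46, c69, ← h.eq, map_mul, hrot 69 (by norm_num), mul_assoc]
  have nk : Commute n (kk hy) :=
    (comm_five (by norm_num) f47 _).mul_right (comm_five (by norm_num) f70 _)
  have nb : Commute n (gB hy) :=
    (comm_five (by norm_num) f46 _).mul_right (comm_five (by norm_num) f69 _)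
  rw [g2, sg_mul, sg_mul, sg_gA hy hL, hk, nW_prod, ← hn, ← hv0]
  calc gA hy * n * (kk hy * v0) * sg (gB hy)
      = gA hy * (n * kk hy) * (v0 * sg (gB hy) * v0⁻¹) * v0 := by group
    _ = gA hy * kk hy * (n * gB hy) * ng certE6C 69 (1 : L) * v0 := by rw [hb, nk.eq]; group
    _ = _ := by rw [nb.eq]; group

/-- Transfer of the twisting by a conjugating element. -/
theorem fixed_transfer {g n : GL chevE6.Idx L} (hg : sg g = g * n) (c : GL chevE6.Idx L) :
    sg (g * c * g⁻¹) = g * c * g⁻¹ ↔ n * sg c * n⁻¹ = c := by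
  rw [sg_mul, sg_mul, sg_inv, hg, mul_inv_rev, show g * n * sg c * (n⁻¹ * g⁻¹) = g * (n * sg c * n⁻¹) * g⁻¹ by group,
    mul_left_inj, mul_right_inj]

end Cfsg.Lib.Chev.TwE6Five
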