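import Cfsg.Agent.Lib.Chev.TwE6Five.Two

/-!
The group ²E₆(2) as the fixed points of the twisting inside the Chevalley group over the field with 16 elements.
-/

set_option autoImplicit false
set_option maxRecDepth 10000
set_option linter.unusedSectionVars false

namespace Cfsg.Lib.Chev.TwE6Five

open Cfsg.Lie Polynomial

variable {K : Type*} [Field K]

theorem twistedE6_eq_fixed [Fintype K] (hK : Fintype.card K = 4) :
    ∃ (f : K →+* K) (h : TwOK certE6C twE6 (twSigma symOKE6_gr f)),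
      (∀ t, f t = t ^ 2) ∧ Cfsg.Lie.twistedE6 K 2 = h.fixed certE6C := by
  have hq : IsPrimePow 2 := Nat.prime_two.isPrimePow
  have hK' : Nat.card K = 2 ^ 2 := by rw [Nat.card_eq_fintype_card, hK]; norm_num
  obtain ⟨f, hf, hit, hk⟩ := exists_frobQ hq (by norm_num) hK'
  have hZ := fun c => hZE6 hk c
  have h := twSimplyE6.twOK certE6C symOKE6_gr f fullCertE6 twCombE6
  have hgen := twSimplyE6.fixed_eq_closure certE6C symOKE6_gr f fullCertE6 twCombE6 twLinkedE6 hZ
  have heq : Cfsg.Lie.twistedE6 K 2 = h.fixed certE6C := by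
    rw [hgen, Cfsg.Lie.twistedE6, ChevalleyDatum.genSubgroup]
    congr 1
    have b0 : twE6.base 0 = [56, 36] := rfl
    have b1 : twE6.base 1 = [42, 37] := rfl
    have b2 : twE6.base 2 = [39] := rfl
    have b3 : twE6.base 3 = [46] := rfl
    have n0 : ([56, 36] : List ℕ).map tblE6.neg = [15, 35] := by decide +kernel
    have n1 : ([42, 37] : List ℕ).map tblE6.neg = [29, 34] := by decide +kernel
    have n2 : ([39] : List ℕ).map tblE6.neg = [32] := by decide +kernel
    have n3 : ([46] : List ℕ).map tblE6.neg = [25] := by decide +kernel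
    have v2 : ∀ (J : ℕ), J = 2 ∨ J = 3 → ∀ t : K, f^[(twE6.orb J).length] t = t ↔ t ^ 2 = t := by
      rintro J (rfl | rfl) t
      · rw [show (twE6.orb 2).length = 1 from rfl, hit, pow_one]
      · rw [show (twE6.orb 3).length = 1 from rfl, hit, pow_one]
    have v0 : ∀ (J : ℕ), J = 0 ∨ J = 1 → ∀ t : K, f^[(twE6.orb J).length] t = t := by
      rintro J (rfl | rfl) t <;> exact hk t
    have hcoe : ∀ (r : ℕ) (t : K), ((orbEl certE6C f [r] t : GL chevE6.Idx K) : Matrix chevE6.Idx chevE6.Idx K) =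
        chevE6.wordMat K [(r, t)] := fun r t => by simp [orbEl, ChevalleyDatum.wordMat, coe_xg]
    have hcoe2 : ∀ (r s : ℕ) (t : K), ((orbEl certE6C f [r, s] t : GL chevE6.Idx K) :
        Matrix chevE6.Idx chevE6.Idx K) = chevE6.wordMat K [(r, t), (s, t ^ 2)] := fun r s t => by
      simp [orbEl, ChevalleyDatum.wordMat, coe_xg, hf]
    ext g
    constructor
    · rintro ⟨w, hw, hg⟩
      rcases hw with ⟨t, ht, r, hr, rfl⟩ | ⟨t, rs, hr, rfl⟩
      · simp only [List.mem_cons, List.not_mem_nil, or_false] at hr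
        rcases hr with rfl | rfl | rfl | rfl
        · exact ⟨3, by decide, t, (v2 3 (by simp) t).2 ht, Or.inl (Units.ext (by rw [hg, b3, hcoe]; rfl))⟩
        · exact ⟨3, by decide, t, (v2 3 (by simp) t).2 ht, Or.inr (Units.ext (by rw [hg, b3, n3, hcoe]; rfl))⟩
        · exact ⟨2, by decide, t, (v2 2 (by simp) t).2 ht, Or.inl (Units.ext (by rw [hg, b2, hcoe]; rfl))⟩
        · exact ⟨2, by decide, t, (v2 2 (by simp) t).2 ht, Or.inr (Units.ext (by rw [hg, b2, n2, hcoe]; rfl))⟩
      · simp only [List.mem_cons, List.not_mem_nil, or_false] at hr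
        rcases hr with rfl | rfl | rfl | rfl
        · exact ⟨0, by decide, t, v0 0 (by simp) t, Or.inl (Units.ext (by rw [hg, b0, hcoe2]; rfl))⟩
        · exact ⟨0, by decide, t, v0 0 (by simp) t, Or.inr (Units.ext (by rw [hg, b0, n0, hcoe2]; rfl))⟩
        · exact ⟨1, by decide, t, v0 1 (by simp) t, Or.inl (Units.ext (by rw [hg, b1, hcoe2]; rfl))⟩
        · exact ⟨1, by decide, t, v0 1 (by simp) t, Or.inr (Units.ext (by rw [hg, b1, n1, hcoe2]; rfl))⟩
    · rintro ⟨J, hJ, t, ht, hg⟩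
      have : J = 0 ∨ J = 1 ∨ J = 2 ∨ J = 3 := by
        have : J < 4 := hJ
        omega
      rcases this with rfl | rfl | rfl | rfl <;> rcases hg with rfl | rfl
      · exact ⟨_, Or.inr ⟨t, (e6p1, e6p6), by simp, rfl⟩, by rw [b0, hcoe2]; rfl⟩
      · exact ⟨_, Or.inr ⟨t, (e6m1, e6m6), by simp, rfl⟩, by rw [b0, n0, hcoe2]; rfl⟩
      · exact ⟨_, Or.inr ⟨t, (e6p3, e6p5), by simp, rfl⟩, by rw [b1, hcoe2]; rfl⟩
      · exact ⟨_, Or.inr ⟨t, (e6m3, e6m5), by simp, rfl⟩, by rw [b1, n1, hcoe2]; rfl⟩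
      · exact ⟨_, Or.inl ⟨t, (v2 2 (by simp) t).1 ht, e6p4, by simp, rfl⟩, by rw [b2, hcoe]; rfl⟩
      · exact ⟨_, Or.inl ⟨t, (v2 2 (by simp) t).1 ht, e6m4, by simp, rfl⟩, by rw [b2, n2, hcoe]; rfl⟩
      · exact ⟨_, Or.inl ⟨t, (v2 3 (by simp) t).1 ht, e6p2, by simp, rfl⟩, by rw [b3, hcoe]; rfl⟩
      · exact ⟨_, Or.inl ⟨t, (v2 3 (by simp) t).1 ht, e6m2, by simp, rfl⟩, by rw [b3, n3, hcoe]; rfl⟩
  exact ⟨f, h, hf, heq⟩

/-- A field with 16 elements containing a field with 4 elements, with a root of `X⁴ + X + 1`. -/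
theorem exists_field {K : Type*} [Field K] [Fintype K] (hK : Fintype.card K = 4) :
    ∃ (L : Type) (_ : Field L) (_ : Fintype L) (_ : CharP L 2) (_ : K →+* L) (y : L),
      Fintype.card L = 16 ∧ y ^ 4 = y + 1 := by
  classical
  haveI : Fact (Nat.Prime 2) := ⟨Nat.prime_two⟩
  haveI : CharP K 2 := charP_of_card_eq_prime_pow (f := 2) (by rw [hK]; norm_num)
  letI := ZMod.algebra K 2
  let L := GaloisField 2 4
  haveI : Fintype L := Fintype.ofFinite L
  have hL : Fintype.card L = 16 := by rw [← Nat.card_eq_fintype_card, GaloisField.card 2 4 (by norm_num)]; norm_num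
  have hK2 : Module.finrank (ZMod 2) K = 2 := by
    have := Module.card_eq_pow_finrank (K := ZMod 2) (V := K)
    rw [hK, ZMod.card] at this
    exact Nat.pow_right_injective le_rfl (by rw [← this]; norm_num : 2 ^ Module.finrank (ZMod 2) K = 2 ^ 2)
  obtain ⟨φ⟩ := FiniteField.nonempty_algHom_of_finrank_dvd (F := ZMod 2) (K := K) (L := L)
    (by rw [hK2, GaloisField.finrank 2 (by norm_num)]; norm_num)
  have hy : ∃ y : L, y ^ 4 = y + 1 := by
    by_contra hne
    push Not at hne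
    let P : L[X] := X ^ 12 + X ^ 9 + X ^ 8 + X ^ 6 + X ^ 4 + X ^ 3 + X ^ 2 + X
    have hPd : P.natDegree = 12 := by simp only [P]; compute_degree!
    have hP0 : P ≠ 0 := fun e => by rw [e, natDegree_zero] at hPd; norm_num at hPd
    have hall : ∀ z : L, P.eval z = 0 := fun z => by
      have h16 := FiniteField.pow_card z
      rw [hL] at h16
      have h2 : (2 : L) = 0 := CharTwo.two_eq_zero
      have e : (z ^ 4 + z + 1) * P.eval z = z ^ 16 + z := by
        simp only [P, eval_add, eval_pow, eval_X]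
        linear_combination (z ^ 13 + z ^ 12 + z ^ 10 + z ^ 9 + z ^ 8 + z ^ 7 + z ^ 6 + z ^ 5 + z ^ 4 + z ^ 3 + z ^ 2) * h2
      rw [h16, CharTwo.add_self_eq_zero] at e
      refine (mul_eq_zero.1 e).resolve_left fun e' => hne z ?_
      rw [add_assoc] at e'
      exact CharTwo.add_eq_zero.1 e'
    have hsub : Finset.univ.val ⊆ P.roots := fun z _ => (mem_roots hP0).2 (hall z)
    have := (Multiset.card_le_card ((Multiset.le_iff_subset Finset.univ.nodup).2 hsub)).trans (card_roots' P)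
    rw [hPd, Finset.card_val, Finset.card_univ, hL] at this
    omega
  obtain ⟨y, hy⟩ := hy
  exact ⟨L, inferInstance, inferInstance, inferInstance, φ.toRingHom, y, hL, hy⟩

end Cfsg.Lib.Chev.TwE6Five
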