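import Cfsg.Agent.Lib.Chev.TwE6Five.Cent
import Cfsg.Agent.Lib.Linear.SLBasic

/-! The Levi group over the prime field is SL(4, 2). -/

set_option autoImplicit false
set_option maxRecDepth 100000
set_option linter.unusedSectionVars false

namespace Cfsg.Lib.Chev.TwE6Five

open Cfsg.Lie
open scoped MatrixGroups

/-- The position of a module vector. -/
def cm : Fin 4 → Fin chevE6.nroots := fun i => (![3, 37, 40, 48] : Fin 4 → Fin 72) i

theorem cm_inj : Function.Injective cm := by decide +kernel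

theorem cm_mem : ∀ j, ((cm j : Fin chevE6.nroots) : ℕ) ∈ comL := by decide +kernel

theorem comL_cm : ∀ x ∈ comL, ∃ j : Fin 4, ((cm j : Fin chevE6.nroots) : ℕ) = x := by decide +kernel

/-- The matrix of a root element on the module over the integers. -/
noncomputable def blkZ (r : ℕ) : Matrix (Fin 4) (Fin 4) ℤ :=
  Matrix.of fun i j => (if i = j then 1 else 0) +
    ((tblE6.entry r (cm j)).map fun q => if q.1 = ((cm i : Fin chevE6.nroots) : ℕ) then q.2 else 0).sum

/-- The matrix of a root element on the module. -/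
noncomputable def b2 (r : ℕ) : Matrix (Fin 4) (Fin 4) (ZMod 2) := (blkZ r).map fun z => (z : ZMod 2)

theorem module_ok : ∀ r ∈ ptL, ∀ j : Fin 4, ((cm j : Fin chevE6.nroots) : ℕ) ≠ r ∧
    ((cm j : Fin chevE6.nroots) : ℕ) ≠ tblE6.neg r ∧
    ∀ q ∈ tblE6.entry r (cm j), q.1 ∈ comL := by decide +kernel

variable {L : Type*} [Field L] [CharP L 2] [Fintype L] {y : L} (hy : y ^ 4 = y + 1) (hL : Fintype.card L = 16)

/-- The embedding of the prime field. -/
noncomputable def io (L : Type*) [Field L] [CharP L 2] : ZMod 2 →+* L :=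
  haveI : Fact (Nat.Prime 2) := ⟨Nat.prime_two⟩
  ZMod.castHom dvd_rfl L

theorem io_int (z : ℤ) : io L (z : ZMod 2) = (z : L) := map_intCast _ z

/-- The block on the module. -/
noncomputable def blk (g : GL chevE6.Idx L) : Matrix (Fin 4) (Fin 4) L :=
  Matrix.of fun i j => (g : Matrix chevE6.Idx chevE6.Idx L) (Sum.inr (cm i)) (Sum.inr (cm j))

/-- An element keeping the module. -/
def Keep (g : GL chevE6.Idx L) : Prop :=
  ∀ j : Fin 4, ∀ a : chevE6.Idx, (∀ i, a ≠ Sum.inr (cm i)) → (g : Matrix chevE6.Idx chevE6.Idx L) a (Sum.inr (cm j)) = 0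

theorem keep_mul {g h : GL chevE6.Idx L} (hg : Keep g) (hh : Keep h) :
    Keep (g * h) ∧ blk (g * h) = blk g * blk h := by
  classical
  have key : ∀ (a : chevE6.Idx) (j : Fin 4),
      ((g * h : GL chevE6.Idx L) : Matrix chevE6.Idx chevE6.Idx L) a (Sum.inr (cm j)) =
        ∑ k : Fin 4, (g : Matrix chevE6.Idx chevE6.Idx L) a (Sum.inr (cm k)) * blk h k j := by
    intro a j
    rw [Units.val_mul, Matrix.mul_apply]
    simp only [blk, Matrix.of_apply]
    rw [← Finset.sum_image (s := Finset.univ) (g := fun k : Fin 4 => (Sum.inr (cm k) : chevE6.Idx))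
      (f := fun b => (g : Matrix chevE6.Idx chevE6.Idx L) a b * (h : Matrix chevE6.Idx chevE6.Idx L) b (Sum.inr (cm j)))
      (fun x _ y _ e => cm_inj (Sum.inr_injective e))]
    refine (Finset.sum_subset (Finset.subset_univ _) fun b _ hb => ?_).symm
    rw [hh j b fun i e => hb (Finset.mem_image.2 ⟨i, Finset.mem_univ _, e.symm⟩), mul_zero]
  refine ⟨fun j a ha => ?_, ?_⟩
  · rw [key]
    exact Finset.sum_eq_zero fun k _ => by rw [hg k a ha, zero_mul]
  · ext i j
    exact key _ j

theorem keep_one : Keep (1 : GL chevE6.Idx L) ∧ blk (1 : GL chevE6.Idx L) = 1 := by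
  refine ⟨fun j a ha => ?_, ?_⟩
  · rw [Units.val_one, Matrix.one_apply_ne (ha j)]
  · ext i j
    show (1 : Matrix chevE6.Idx chevE6.Idx L) _ _ = (1 : Matrix (Fin 4) (Fin 4) L) i j
    by_cases h : i = j
    · subst h; simp
    · rw [Matrix.one_apply_ne h, Matrix.one_apply_ne fun e => h (cm_inj (Sum.inr_injective e))]

theorem keep_root {r : ℕ} (hr : r ∈ ptL) :
    Keep (xg certE6C r (1 : L)) ∧ blk (xg certE6C r (1 : L)) = (b2 r).map (io L) := by
  have hr72 : r < chevE6.nroots := (levi_fix r hr).1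
  have hzero : ∀ (l : List (ℕ × ℤ)) (k w : ℕ), (∀ q ∈ l, q.1 ≠ w) → chainVal l k (1 : L) w = 0 := by
    intro l k w h
    refine List.sum_eq_zero fun x hx => ?_
    obtain ⟨q, hq, rfl⟩ := List.mem_map.1 hx
    rw [if_neg]
    exact h _ (List.fst_mem_of_mem_zipIdx hq)
  have hval : ∀ (l : List (ℕ × ℤ)) (k w : ℕ),
      chainVal l k (1 : L) w = (((l.map fun q => if q.1 = w then q.2 else 0).sum : ℤ) : L) := by
    intro l
    induction l with
    | nil => intro k w; simp [chainVal]
    | cons q l ih =>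
      intro k w
      have h := ih (k + 1) w
      simp only [chainVal, List.zipIdx_cons, List.map_cons, List.sum_cons] at h ⊢
      rw [h]
      push_cast
      congr 1
      split_ifs <;> simp
  refine ⟨fun j a ha => ?_, ?_⟩
  · obtain ⟨h1, h2, h3⟩ := module_ok r hr j
    rw [coe_xg]
    rcases a with i' | w
    · rw [x_inl_inr certE6C.spec hr72, if_neg h2]
    · rw [x_inr_inr certE6C.spec hr72, if_neg h1, if_neg h2,
        if_neg (fun e => ha j (congrArg Sum.inr (Fin.ext e))), zero_add, hzero]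
      intro q hq e
      obtain ⟨i, hi⟩ := comL_cm _ (h3 q hq)
      exact ha i (congrArg Sum.inr (Fin.ext (hi.trans e).symm))
  · ext i j
    obtain ⟨h1, h2, -⟩ := module_ok r hr j
    show ((xg certE6C r (1 : L) : GL chevE6.Idx L) : Matrix chevE6.Idx chevE6.Idx L) _ _ = io L ((blkZ r i j : ℤ) : ZMod 2)
    rw [io_int, coe_xg, x_inr_inr certE6C.spec hr72, if_neg h1, if_neg h2, hval]
    simp only [blkZ, Matrix.of_apply, Int.cast_add]
    congr 1
    by_cases h : i = j
    · subst h; simp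
    · rw [if_neg fun e => h (cm_inj (Fin.ext e)), if_neg h, Int.cast_zero]

theorem levi_keep {g : GL chevE6.Idx L} (hg : g ∈ levi L) :
    Keep g ∧ ∃ M : Matrix (Fin 4) (Fin 4) (ZMod 2), blk g = M.map (io L) := by
  induction hg using Subgroup.closure_induction with
  | mem x hx =>
    obtain ⟨r, hr, rfl⟩ := hx
    exact ⟨(keep_root hr).1, _, (keep_root hr).2⟩
  | one => exact ⟨keep_one.1, 1, by rw [keep_one.2, Matrix.map_one _ (map_zero _) (map_one _)]⟩
  | mul a b _ _ ha hb =>
    obtain ⟨ha1, A, ha2⟩ := ha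
    obtain ⟨hb1, B, hb2⟩ := hb
    exact ⟨(keep_mul ha1 hb1).1, A * B, by rw [(keep_mul ha1 hb1).2, ha2, hb2, Matrix.map_mul]⟩
  | inv a _ ha =>
    obtain ⟨ha1, A, ha2⟩ := ha
    have hp : ∀ n : ℕ, Keep (a ^ n) ∧ ∃ M : Matrix (Fin 4) (Fin 4) (ZMod 2), blk (a ^ n) = M.map (io L) := by
      intro n
      induction n with
      | zero => exact ⟨by simpa using keep_one.1, 1, by rw [pow_zero, keep_one.2, Matrix.map_one _ (map_zero _) (map_one _)]⟩
      | succ n ih =>
        obtain ⟨h1, M, h2⟩ := ih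
        rw [pow_succ]
        exact ⟨(keep_mul h1 ha1).1, M * A, by rw [(keep_mul h1 ha1).2, h2, ha2, Matrix.map_mul]⟩
    have : a⁻¹ ∈ Submonoid.powers a := (isOfFinOrder_of_finite a).mem_powers_iff_mem_zpowers.2
      (inv_mem (Subgroup.mem_zpowers a))
    obtain ⟨n, hn⟩ := this
    exact hn ▸ hp n

/-- The matrix of an element on the module. -/
noncomputable def mat2 (g : GL chevE6.Idx L) : Matrix (Fin 4) (Fin 4) (ZMod 2) :=
  open Classical in Matrix.of fun i j => if blk g i j = 0 then 0 else 1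

theorem mat2_eq {g : GL chevE6.Idx L} {M : Matrix (Fin 4) (Fin 4) (ZMod 2)} (h : blk g = M.map (io L)) :
    mat2 g = M := by
  classical
  ext i j
  simp only [mat2, Matrix.of_apply, h, Matrix.map_apply, map_eq_zero]
  generalize M i j = m
  revert m
  decide

theorem blk_mat2 {g : GL chevE6.Idx L} (hg : g ∈ levi L) : blk g = (mat2 g).map (io L) := by
  obtain ⟨-, M, h⟩ := levi_keep hg
  rw [mat2_eq h, h]

theorem mat2_mul {g h : GL chevE6.Idx L} (hg : g ∈ levi L) (hh : h ∈ levi L) : mat2 (g * h) = mat2 g * mat2 h :=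
  mat2_eq (by rw [(keep_mul (levi_keep hg).1 (levi_keep hh).1).2, blk_mat2 hg, blk_mat2 hh, Matrix.map_mul])

theorem mat2_one : mat2 (1 : GL chevE6.Idx L) = 1 :=
  mat2_eq (by rw [keep_one.2, Matrix.map_one _ (map_zero _) (map_one _)])

theorem mat2_root {r : ℕ} (hr : r ∈ ptL) : mat2 (xg certE6C r (1 : L)) = b2 r := mat2_eq (keep_root hr).2

theorem mat2_det {g : GL chevE6.Idx L} (hg : g ∈ levi L) : (mat2 g).det = 1 := by
  have h := congrArg Matrix.det (mat2_mul hg (inv_mem hg))
  rw [mul_inv_cancel, mat2_one, Matrix.det_one, Matrix.det_mul] at h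
  generalize (mat2 g).det = a at h
  generalize (mat2 g⁻¹).det = b at h
  revert a b
  decide

/-- The map to SL(4, 2). -/
noncomputable def toSL : ↥(levi L) →* Matrix.SpecialLinearGroup (Fin 4) (ZMod 2) :=
  MonoidHom.mk' (fun g => ⟨mat2 g.1, mat2_det g.2⟩) fun a b => Subtype.ext (mat2_mul a.2 b.2)

/-- A word in the three fundamental reflections as a matrix. -/
noncomputable def refMat (is : List ℕ) : Matrix (Fin 4) (Fin 4) (ZMod 2) :=
  (is.map fun i =>
    b2 (wperm tblE6 (refA.getD i ([], 0)).1 (tblE6.simp' (refA.getD i ([], 0)).2)) *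
      b2 (tblE6.neg (wperm tblE6 (refA.getD i ([], 0)).1 (tblE6.simp' (refA.getD i ([], 0)).2))) *
      b2 (wperm tblE6 (refA.getD i ([], 0)).1 (tblE6.simp' (refA.getD i ([], 0)).2))).prod

/-- Lower unitriangular. -/
def LowU (M : Matrix (Fin 4) (Fin 4) (ZMod 2)) : Prop :=
  ∀ i j : Fin 4, i ≤ j → M i j = if i = j then 1 else 0

instance (M : Matrix (Fin 4) (Fin 4) (ZMod 2)) : Decidable (LowU M) :=
  haveI : ∀ i j : Fin 4, DecidableEq (ZMod 2) := fun _ _ => inferInstance
  decidable_of_iff (∀ i j : Fin 4, i ≤ j → Matrix.of.symm M i j = if i = j then 1 else 0) Iff.rfl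

theorem zmod_two_cases : ∀ a : ZMod 2, a = 0 ∨ a = 1 := by decide

theorem lowU_mul {A B : Matrix (Fin 4) (Fin 4) (ZMod 2)} (ha : LowU A) (hb : LowU B) : LowU (A * B) := by
  intro i j hij
  rw [Matrix.mul_apply, Finset.sum_eq_single i (fun k _ hk => ?_) (fun h => absurd (Finset.mem_univ i) h)]
  · rw [ha i i le_rfl, if_pos rfl, one_mul, hb i j hij]
  · rcases lt_or_gt_of_ne hk with h | h
    · rw [hb k j (h.le.trans hij), if_neg (h.trans_le hij).ne, mul_zero]
    · rw [ha i k h.le, if_neg h.ne, zero_mul]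

theorem lowU_pos : ∀ r ∈ posL, r ∈ ptL ∧ LowU (b2 r) := by decide +kernel

theorem refMat_low : ∀ m < 24, LowU (refMat (nth [] stI m)) → m = 0 := by decide +kernel

theorem stW_zero : nth [] stW 0 = [] := rfl

theorem pos_sublists : ∀ l ∈ posL.sublists, (l.map b2).prod = 1 → l = [] := by decide +kernel

theorem pos_range : (List.range' (chevE6.nroots / 2) (chevE6.nroots / 2)).filter (fun r => decide (r ∈ ptL)) = posL := by
  decide +kernel

theorem transv_root : ∀ i j : Fin 4, i ≠ j → ∃ r ∈ ptL, b2 r = Matrix.transvection i j 1 := by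
  decide +kernel

include hy hL in
theorem pos_form {g : GL chevE6.Idx L} (hg : g ∈ levi L ⊓ chevE6.posUnipotent L) :
    ∃ l : List ℕ, l.Sublist posL ∧ g = (l.map fun r => xg certE6C r (1 : L)).prod := by
  classical
  haveI : Fact (Nat.Prime 2) := ⟨Nat.prime_two⟩
  obtain ⟨hgl, hgp⟩ := hg
  obtain ⟨hcomm, hfix, -⟩ := levi_comm hy hL hgl
  have hd : tA y ∈ chevE6.diagonalSubgroup L := pair_diag hy (by norm_num) (by norm_num)
  obtain ⟨z, hz⟩ := (torusHom_range certE6C (F := L)).symm ▸ hd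
  have hchr : ∀ x < 72, chr tblE6 chevE6 (extend' z) x = (y ^ 3) ^ eI 1 0 x := fun x hx => by
    have h := tt_acts hy hL 1 0 x hx 1
    simp only [tt, pow_one, pow_zero, mul_one, Nat.cast_one, Nat.cast_zero] at h
    have h2 := torusHom_conj_xg certE6C z hx 1
    rw [hz, mul_one] at h2
    exact xg_injective certE6C hx (h2.symm.trans h)
  have hU := mem_fixU certE6C fullCertE6 (c := z) hgp (by rw [hz]; exact mul_inv_eq_iff_eq_mul.2 hcomm.eq)
  rw [fA_fixU hy hL hchr hU] at hfix
  obtain ⟨t, ht, rfl⟩ := hU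
  have e : Matrix.GeneralLinearGroup.map (frobenius L 2) (oprod certE6C (chevE6.nroots / 2) (chevE6.nroots / 2) t) =
      oprod certE6C (chevE6.nroots / 2) (chevE6.nroots / 2) fun r => t r ^ 2 := by
    simp [oprod, map_list_prod, List.map_map, Function.comp_def, map_xg, frobenius_def]
  rw [e] at hfix
  have h2 := oprod_inj certE6C (chevE6.nroots / 2) (k := chevE6.nroots / 2) (show 72 ≤ 2 * (72 / 2) by norm_num)
    (show 72 / 2 + 72 / 2 = 72 by norm_num) hfix
  have h01 : ∀ r ∈ List.range' (chevE6.nroots / 2) (chevE6.nroots / 2), t r = 0 ∨ (t r = 1 ∧ r ∈ ptL) := by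
    intro r hr
    obtain ⟨hr1, hr2⟩ := List.mem_range'_1.1 hr
    have hr72 : r < 72 := hr2
    rcases mul_left_eq_self₀.1 ((pow_two (t r)).symm.trans (h2 r hr1 hr72)) with h | h
    · refine Or.inr ⟨h, ?_⟩
      by_contra hp
      refine absurd h ?_
      rw [ht r]
      · exact zero_ne_one
      · rw [hchr r hr72]
        intro h'
        have h5 := zeta_eq_one hy hL h'
        rw [eI, Int.emod_emod_of_dvd _ dvd_rfl] at h5
        exact hp ((levi_iff r hr72).1 h5)
    · exact Or.inl h
  refine ⟨(List.range' (chevE6.nroots / 2) (chevE6.nroots / 2)).filter (fun r => decide (t r = 1)), ?_, ?_⟩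
  · rw [← pos_range, show ((List.range' (chevE6.nroots / 2) (chevE6.nroots / 2)).filter fun r => decide (t r = 1)) =
      ((List.range' (chevE6.nroots / 2) (chevE6.nroots / 2)).filter fun r => decide (r ∈ ptL)).filter
        (fun r => decide (t r = 1)) by
      rw [List.filter_filter]
      refine List.filter_congr fun r hr => ?_
      rcases h01 r hr with h | ⟨h, hp⟩
      · simp [h]
      · simp [h, hp]]
    exact List.filter_sublist
  · have key : ∀ l : List ℕ, (∀ r ∈ l, t r = 0 ∨ t r = 1) → (l.map fun r => xg certE6C r (t r)).prod =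
        ((l.filter fun r => decide (t r = 1)).map fun r => xg certE6C r (1 : L)).prod := by
      intro l
      induction l with
      | nil => intro _; rfl
      | cons a l ih =>
        intro hl
        have h' := ih fun r hr => hl r (List.mem_cons_of_mem _ hr)
        rcases hl a (List.mem_cons_self ..) with h | h
        · rw [List.map_cons, List.prod_cons, List.filter_cons_of_neg (by simp [h]), h, xg_zero, one_mul, h']
        · rw [List.map_cons, List.prod_cons, List.filter_cons_of_pos (by simp [h]), List.map_cons, List.prod_cons, h, h']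
    exact key _ fun r hr => (h01 r hr).imp id fun h => h.1

theorem mat2_list : ∀ l : List ℕ, (∀ r ∈ l, r ∈ ptL) →
    (l.map fun r => xg certE6C r (1 : L)).prod ∈ levi L ∧
      mat2 ((l.map fun r => xg certE6C r (1 : L)).prod) = (l.map b2).prod
  | [], _ => ⟨one_mem _, mat2_one⟩
  | a :: l, h => by
    obtain ⟨h1, h2⟩ := mat2_list l fun r hr => h r (List.mem_cons_of_mem _ hr)
    have ha : xg certE6C a (1 : L) ∈ levi L := Subgroup.subset_closure ⟨a, h a (List.mem_cons_self ..), rfl⟩
    simp only [List.map_cons, List.prod_cons]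
    exact ⟨mul_mem ha h1, by rw [mat2_mul ha h1, h2, mat2_root (h a (List.mem_cons_self ..))]⟩

include hy hL in
theorem pos_low {g : GL chevE6.Idx L} (hg : g ∈ levi L ⊓ chevE6.posUnipotent L) : LowU (mat2 g) := by
  obtain ⟨l, hl, rfl⟩ := pos_form hy hL hg
  rw [(mat2_list l fun r hr => (lowU_pos r (hl.subset hr)).1).2]
  have : ∀ l : List ℕ, (∀ r ∈ l, r ∈ posL) → LowU (l.map b2).prod := by
    intro l
    induction l with
    | nil => intro _; exact fun i j _ => Matrix.one_apply
    | cons a l ih =>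
      intro h
      rw [List.map_cons, List.prod_cons]
      exact lowU_mul (lowU_pos a (h a (List.mem_cons_self ..))).2 (ih fun r hr => h r (List.mem_cons_of_mem _ hr))
  exact this l fun r hr => hl.subset hr

theorem mat2_word {m : ℕ} (hm : m < 24) : mat2 (wnu certE6C L (nth [] stW m)) = refMat (nth [] stI m) := by
  have his : nth [] stI m ∈ stI := by
    rw [nth_eq, List.getD_eq_getElem _ _ (show m < stI.length from hm)]
    exact List.getElem_mem _
  have hwd : IsWord chevE6 (nth [] stW m) := by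
    have : nth [] stW m ∈ stW := by
      rw [nth_eq, List.getD_eq_getElem _ _ (show m < stW.length from hm)]
      exact List.getElem_mem _
    exact fun i hi => stW_word _ this i hi
  have hmem : ∀ i ∈ nth [] stI m, refA.getD i ([], 0) ∈ refA := fun i hi => by
    rw [List.getD_eq_getElem _ _ (show i < refA.length from stI_word _ his i hi)]
    exact List.getElem_mem _
  have hword : IsWord chevE6 ((nth [] stI m).flatMap fun i => refWord (refA.getD i ([], 0))) := fun j hj => by
    obtain ⟨i, hi, hj'⟩ := List.mem_flatMap.1 hj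
    obtain ⟨h1, h2, -⟩ := refA_root _ (hmem i hi)
    simp only [refWord, List.mem_append, List.mem_singleton, List.mem_reverse] at hj'
    rcases hj' with (h | rfl) | h
    exacts [h1 j h, h2, h1 j h]
  rw [wnu_eq_two certE6C fullCertE6 hwd hword (stW_eq m hm)]
  have key : ∀ l : List ℕ, (∀ i ∈ l, refA.getD i ([], 0) ∈ refA) →
      wnu certE6C L (l.flatMap fun i => refWord (refA.getD i ([], 0))) ∈ levi L ∧
        mat2 (wnu certE6C L (l.flatMap fun i => refWord (refA.getD i ([], 0)))) = refMat l := by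
    intro l
    induction l with
    | nil => intro _; exact ⟨by simp [wnu], by simp [wnu, refMat, mat2_one]⟩
    | cons a l ih =>
      intro hl
      obtain ⟨h1, h2⟩ := ih fun i hi => hl i (List.mem_cons_of_mem _ hi)
      obtain ⟨g1, g2, g3⟩ := refA_root _ (hl a (List.mem_cons_self ..))
      obtain ⟨g4, -, -, -, g5⟩ := levi_fix _ g3
      have e : wnu certE6C L (refWord (refA.getD a ([], 0))) =
          xg certE6C (wperm tblE6 (refA.getD a ([], 0)).1 (tblE6.simp' (refA.getD a ([], 0)).2)) (1 : L) *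
          xg certE6C (tblE6.neg (wperm tblE6 (refA.getD a ([], 0)).1 (tblE6.simp' (refA.getD a ([], 0)).2))) (1 : L) *
          xg certE6C (wperm tblE6 (refA.getD a ([], 0)).1 (tblE6.simp' (refA.getD a ([], 0)).2)) (1 : L) := by
        rw [refWord, ← ng_eq_wnu certE6C fullCertE6 g1 g2 rfl, ng, certE6C.spec.shape.neg_eq _ g4, inv_one, neg_one_L]
      have m1 : ∀ {r : ℕ}, r ∈ ptL → xg certE6C r (1 : L) ∈ levi L := fun hr => Subgroup.subset_closure ⟨_, hr, rfl⟩
      rw [List.flatMap_cons, wnu_append, e]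
      refine ⟨mul_mem (mul_mem (mul_mem (m1 g3) (m1 g5)) (m1 g3)) h1, ?_⟩
      rw [mat2_mul (mul_mem (mul_mem (m1 g3) (m1 g5)) (m1 g3)) h1, mat2_mul (mul_mem (m1 g3) (m1 g5)) (m1 g3),
        mat2_mul (m1 g3) (m1 g5), mat2_root g3, mat2_root g5, h2]
      simp [refMat]
  exact (key _ hmem).2

include hy hL in
theorem blk_tA (i : ℕ) : Keep (tA y ^ i) ∧ blk (tA y ^ i) = Matrix.diagonal fun _ => (y ^ 3) ^ (2 * i) := by
  obtain ⟨z, hz⟩ := (torusHom_range certE6C (F := L)).symm ▸
    pow_mem (pair_diag hy (r := 56) (s := 36) (by norm_num) (by norm_num)) i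
  have hm : ((tA y ^ i : GL chevE6.Idx L) : Matrix chevE6.Idx chevE6.Idx L) = scal tblE6 chevE6 (extend' z) := by
    rw [tA, ← hz, coe_torusHom]
  have hchr : ∀ j : Fin 4, chr tblE6 chevE6 (extend' z) (cm j) = (y ^ 3) ^ (2 * i) := by
    intro j
    obtain ⟨hlt, he⟩ := com_exp _ (cm_mem j)
    have ha := Acts.pow hy hL (tt_acts hy hL 1 0) i (cm j) hlt 1
    simp only [tt, pow_one, pow_zero, mul_one, Nat.cast_one, Nat.cast_zero] at ha
    rw [he] at ha
    have hb := torusHom_conj_xg certE6C z hlt 1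
    rw [hz, mul_one] at hb
    rw [xg_injective certE6C hlt (hb.symm.trans ha), show ((i : ℤ) * 2) = ((2 * i : ℕ) : ℤ) by push_cast; ring,
      zpow_natCast]
  refine ⟨fun j a ha => ?_, ?_⟩
  · rw [hm, scal, Matrix.diagonal_apply_ne _ (ha j)]
  · ext a b
    show ((tA y ^ i : GL chevE6.Idx L) : Matrix chevE6.Idx chevE6.Idx L) _ _ = _
    rw [hm, scal]
    by_cases h : a = b
    · subst h
      rw [Matrix.diagonal_apply_eq, Matrix.diagonal_apply_eq]
      exact hchr a
    · rw [Matrix.diagonal_apply_ne _ h, Matrix.diagonal_apply_ne _ fun e => h (cm_inj (Sum.inr_injective e))]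

include hy hL in
/-- The torus meets the Levi group trivially. -/
theorem tA_levi {i : ℕ} (h : tA y ^ i ∈ levi L) : tA y ^ i = 1 := by
  have h1 := (blk_tA hy hL i).2
  rw [blk_mat2 h] at h1
  have h00 := congrFun (congrFun h1 0) 0
  rw [Matrix.map_apply, Matrix.diagonal_apply_eq] at h00
  have hne : (y ^ 3) ^ (2 * i) ≠ 0 := pow_ne_zero _ (zeta_ne hy)
  generalize mat2 (tA y ^ i) 0 0 = m at h00
  have hm : m = 1 := by
    rcases zmod_two_cases m with rfl | rfl
    · exact absurd h00.symm (by rw [map_zero]; exact hne)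
    · rfl
  rw [hm, map_one] at h00
  have hdvd : 5 ∣ 2 * i := zeta_order hy hL ▸ orderOf_dvd_of_pow_eq_one h00.symm
  obtain ⟨k, rfl⟩ : 5 ∣ i := (Nat.Coprime.dvd_of_dvd_mul_left (by norm_num) hdvd)
  rw [pow_mul, ← (tA_order hy hL).1, pow_orderOf_eq_one, one_pow]

include hy hL in
theorem toSL_injective : Function.Injective (toSL : ↥(levi L) →* Matrix.SpecialLinearGroup (Fin 4) (ZMod 2)) := by
  rw [injective_iff_map_eq_one]
  rintro ⟨g, hg⟩ hg1
  have h1 : mat2 g = 1 := congrArg Subtype.val hg1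
  obtain ⟨hc, hf, hG⟩ := levi_comm hy hL hg
  obtain ⟨i, u, hu, v, hv, s, hs, e⟩ := cent_form hy hL hG hc.eq hf
  have hn := wnu_levi (L := L) hv
  have hin : tA y ^ i ∈ levi L := by
    have : tA y ^ i = g * (u * wnu certE6C L v * s)⁻¹ := by rw [e]; group
    rw [this]; exact mul_mem hg (inv_mem (mul_mem (mul_mem hu.1 hn) hs.1))
  rw [tA_levi hy hL hin, one_mul] at e
  obtain ⟨m, hm, he⟩ := List.getElem_of_mem hv
  have hm24 : m < 24 := hm
  have hnth : nth [] stW m = v := by rw [nth_eq, List.getD_eq_getElem _ _ hm, he]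
  rw [e, mat2_mul (mul_mem hu.1 hn) hs.1, mat2_mul hu.1 hn] at h1
  have hlow : LowU (mat2 (wnu certE6C L v)) := by
    have e2 : mat2 (wnu certE6C L v) = mat2 u⁻¹ * mat2 s⁻¹ := by
      have a1 : mat2 u⁻¹ * mat2 u = 1 := by rw [← mat2_mul (inv_mem hu.1) hu.1, inv_mul_cancel, mat2_one]
      have a2 : mat2 s * mat2 s⁻¹ = 1 := by rw [← mat2_mul hs.1 (inv_mem hs.1), mul_inv_cancel, mat2_one]
      calc mat2 (wnu certE6C L v) = (mat2 u⁻¹ * mat2 u) * mat2 (wnu certE6C L v) * (mat2 s * mat2 s⁻¹) := by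
            rw [a1, a2, one_mul, mul_one]
        _ = mat2 u⁻¹ * (mat2 u * mat2 (wnu certE6C L v) * mat2 s) * mat2 s⁻¹ := by simp only [mul_assoc]
        _ = _ := by rw [h1, mul_one]
    rw [e2]
    exact lowU_mul (pos_low hy hL (inv_mem hu)) (pos_low hy hL (inv_mem hs))
  rw [← hnth, mat2_word hm24] at hlow
  have hm0 := refMat_low m hm24 hlow
  subst hm0
  rw [stW_zero] at hnth
  subst hnth
  have hus : g ∈ levi L ⊓ chevE6.posUnipotent L := by
    refine ⟨hg, ?_⟩
    rw [e, show wnu certE6C L ([] : List ℕ) = 1 from List.prod_nil, mul_one]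
    exact mul_mem hu.2 hs.2
  obtain ⟨l, hl, hgl⟩ := pos_form hy hL hus
  have h1' : mat2 g = 1 := congrArg Subtype.val hg1
  rw [hgl, (mat2_list l fun r hr => (lowU_pos r (hl.subset hr)).1).2] at h1'
  have hnil := pos_sublists l (List.mem_sublists.2 hl) h1'
  subst hnil
  exact Subtype.ext (hgl.trans List.prod_nil)

theorem toSL_surjective : Function.Surjective (toSL : ↥(levi L) →* Matrix.SpecialLinearGroup (Fin 4) (ZMod 2)) := by
  haveI : Fact (Nat.Prime 2) := ⟨Nat.prime_two⟩
  rw [← MonoidHom.range_eq_top, eq_top_iff, ← Cfsg.Lib.Linear.closure_transvection_eq_top]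
  refine (Subgroup.closure_le _).2 ?_
  rintro _ ⟨i, j, hij, c, rfl⟩
  rcases zmod_two_cases c with rfl | rfl
  · refine ⟨1, ?_⟩
    rw [map_one]
    exact Subtype.ext (by simp [Matrix.SpecialLinearGroup.transvection_coe])
  · obtain ⟨r, hr, e⟩ := transv_root i j hij
    refine ⟨⟨_, Subgroup.subset_closure ⟨r, hr, rfl⟩⟩, Subtype.ext ?_⟩
    show mat2 (xg certE6C r (1 : L)) = _
    rw [mat2_root hr, e, Matrix.SpecialLinearGroup.transvection_coe]
    rfl

include hy hL in
/-- The Levi group is SL(4, 2). -/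
theorem levi_iso : Nonempty (↥(levi L) ≃* Matrix.SpecialLinearGroup (Fin 4) (ZMod 2)) :=
  ⟨MulEquiv.ofBijective toSL ⟨toSL_injective hy hL, toSL_surjective⟩⟩

end Cfsg.Lib.Chev.TwE6Five
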