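import Cfsg.Agent.Lib.Chev.TwE6Five.Levi
import Cfsg.Agent.S0256

/-!
All elements of order five of ²E₆(2) are conjugate, with centralisers the product of a cyclic group of order five and
the alternating group of degree eight.
-/

set_option autoImplicit false
set_option maxRecDepth 100000
set_option linter.unusedSectionVars false

namespace Cfsg.Lib.Chev.TwE6Five

open Cfsg.Lie

theorem sl_four_two_alt :
    Nonempty (Matrix.SpecialLinearGroup (Fin 4) (ZMod 2) ≃* ↥(alternatingGroup (Fin 8))) := by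
  haveI : Fact (Nat.Prime 2) := ⟨Nat.prime_two⟩
  obtain ⟨e⟩ := Cfsg.Agent.S0256.result (F := ZMod 2) (ZMod.card 2)
  have hz : Subgroup.center (Matrix.SpecialLinearGroup (Fin 4) (ZMod 2)) = ⊥ := by
    refine Subgroup.eq_bot_of_card_eq _ ?_
    rw [Cfsg.Lib.Linear.card_center_SL (ι := Fin 4), Fintype.card_fin, ZMod.card]
    rfl
  exact ⟨((QuotientGroup.quotientBot.symm.trans (QuotientGroup.quotientMulEquivOfEq hz.symm)).trans e)⟩

/-- A conjugation restricted to centralisers. -/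
theorem cent_conj_equiv {G : Type*} [Group G] {a b g : G} (h : g * a * g⁻¹ = b) :
    Nonempty (↥(Subgroup.centralizer ({a} : Set G)) ≃* ↥(Subgroup.centralizer ({b} : Set G))) := by
  have e : (Subgroup.centralizer ({a} : Set G)).map (MulAut.conj g).toMonoidHom = Subgroup.centralizer ({b} : Set G) := by
    ext x
    simp only [Subgroup.mem_map, MulEquiv.coe_toMonoidHom, MulAut.conj_apply, Subgroup.mem_centralizer_singleton_iff]
    constructor
    · rintro ⟨c, hc, rfl⟩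
      rw [← h]
      calc g * c * g⁻¹ * (g * a * g⁻¹) = g * (c * a) * g⁻¹ := by group
        _ = g * (a * c) * g⁻¹ := by rw [hc]
        _ = _ := by group
    · intro hx
      refine ⟨g⁻¹ * x * g, ?_, by group⟩
      rw [← h] at hx
      calc g⁻¹ * x * g * a = g⁻¹ * (x * (g * a * g⁻¹)) * g := by group
        _ = g⁻¹ * (g * a * g⁻¹ * x) * g := by rw [hx]
        _ = _ := by group
  exact ⟨((MulAut.conj g).subgroupMap (Subgroup.centralizer ({a} : Set G))).trans (MulEquiv.subgroupCongr e)⟩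

variable {K : Type*} [Field K] [Fintype K] (hK : Fintype.card K = 4) {L : Type*} [Field L] [CharP L 2] [Fintype L]
  (ι : K →+* L) {y : L} (hy : y ^ 4 = y + 1) (hL : Fintype.card L = 16)

include hK hL in
theorem lift_elem {g n c : GL chevE6.Idx L} (hg : sg g = g * n) (hgm : g ∈ chevE6.group L)
    (hc : c ∈ chevE6.group L) (hfix : n * sg c * n⁻¹ = c) :
    ∃ x : ↥(Cfsg.Lie.twistedE6 K 2), Matrix.GeneralLinearGroup.map ι (x : GL chevE6.Idx K) = g * c * g⁻¹ := by
  obtain ⟨x, hx, e⟩ := descend hK hL ι (mul_mem (mul_mem hgm hc) (inv_mem hgm)) ((fixed_transfer hg c).2 hfix)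
  exact ⟨⟨x, hx⟩, e⟩

include hy hL in
theorem tAB_mem : tA y ∈ chevE6.group L ∧ tB y ∈ chevE6.group L := by
  have h : ∀ {r : ℕ} {v : L}, hg certE6C r v ∈ chevE6.group L := fun {r v} =>
    mul_mem (mul_mem (mul_mem (xg_mem_group certE6C _ _) (xg_mem_group certE6C _ _)) (xg_mem_group certE6C _ _))
      (mul_mem (mul_mem (xg_mem_group certE6C _ _) (xg_mem_group certE6C _ _)) (xg_mem_group certE6C _ _))
  exact ⟨mul_mem h h, mul_mem h h⟩

include hy hL in
theorem tAB_comm : Commute (tA y) (tB y) :=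
  diag_comm certE6C (pair_diag hy (by norm_num) (by norm_num)) (pair_diag hy (by norm_num) (by norm_num))

theorem fA_eq (c : GL chevE6.Idx L) : wnu certE6C L [5] * sg c * (wnu certE6C L [5])⁻¹ = fA c := rfl

include hy hL hK in
theorem cent_five {u : ↥(Cfsg.Lie.twistedE6 K 2)}
    (hu : Matrix.GeneralLinearGroup.map ι (u : GL chevE6.Idx K) = gA hy * tA y * (gA hy)⁻¹) :
    Nonempty (↥(Subgroup.centralizer ({u} : Set ↥(Cfsg.Lie.twistedE6 K 2))) ≃*
      (Multiplicative (ZMod 5) × ↥(alternatingGroup (Fin 8)))) := by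
  obtain ⟨eS⟩ := levi_iso hy hL
  obtain ⟨eA⟩ := sl_four_two_alt
  have hcomm : ∀ (a : ↥(Subgroup.zpowers (tA y))) (s : ↥(levi L)),
      Commute ((Subgroup.zpowers (tA y)).subtype a) ((levi L).subtype s) := by
    rintro ⟨a, n, rfl⟩ ⟨s, hs⟩
    exact (levi_comm hy hL hs).1.zpow_left n
  let ψ := MonoidHom.noncommCoprod (Subgroup.zpowers (tA y)).subtype (levi L).subtype hcomm
  have hψ : Function.Injective ψ := by
    rw [injective_iff_map_eq_one]
    rintro ⟨⟨a, ha⟩, ⟨s, hs⟩⟩ h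
    have h' : a * s = 1 := h
    obtain ⟨n, rfl⟩ : ∃ n : ℕ, tA y ^ n = a := by
      have := (isOfFinOrder_of_finite (tA y)).mem_powers_iff_mem_zpowers.2 ha
      exact this
    have hin : tA y ^ n ∈ levi L := by rw [eq_inv_of_mul_eq_one_left h']; exact inv_mem hs
    have h1 := tA_levi hy hL hin
    rw [h1, one_mul] at h'
    exact Prod.ext (Subtype.ext h1) (Subtype.ext h')
  let φ : ↥(Subgroup.centralizer ({u} : Set ↥(Cfsg.Lie.twistedE6 K 2))) →* GL chevE6.Idx L :=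
    (((MulAut.conj (gA hy)⁻¹).toMonoidHom.comp (Matrix.GeneralLinearGroup.map ι)).comp
      (Cfsg.Lie.twistedE6 K 2).subtype).comp (Subgroup.centralizer ({u} : Set ↥(Cfsg.Lie.twistedE6 K 2))).subtype
  have hφv : ∀ c, φ c = (gA hy)⁻¹ * Matrix.GeneralLinearGroup.map ι ((c : ↥(Cfsg.Lie.twistedE6 K 2)) : GL chevE6.Idx K) *
      gA hy := fun c => by simp [φ]
  have hφ : Function.Injective φ := fun a b e => by
    rw [hφv, hφv, mul_left_inj, mul_right_inj] at e
    exact Subtype.ext (Subtype.ext (map_gl_injective ι e))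
  have hr : φ.range = ψ.range := by
    refine le_antisymm ?_ ?_
    · rintro _ ⟨⟨c, hc⟩, rfl⟩
      obtain ⟨hG, hfix⟩ := ascend hK hL ι c.2
      set x := Matrix.GeneralLinearGroup.map ι (c : GL chevE6.Idx K) with hx
      have hxg : x = gA hy * φ ⟨c, hc⟩ * (gA hy)⁻¹ := by
        rw [hφv]
        group
        rfl
      have hcx : tA y * φ ⟨c, hc⟩ = φ ⟨c, hc⟩ * tA y := by
        have h := congrArg (fun z : ↥(Cfsg.Lie.twistedE6 K 2) => Matrix.GeneralLinearGroup.map ι (z : GL chevE6.Idx K))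
          (Subgroup.mem_centralizer_singleton_iff.1 hc)
        simp only [Subgroup.coe_mul, map_mul, hu, ← hx] at h
        rw [hφv]
        show tA y * ((gA hy)⁻¹ * x * gA hy) = (gA hy)⁻¹ * x * gA hy * tA y
        calc _ = (gA hy)⁻¹ * (gA hy * tA y * (gA hy)⁻¹ * x) * gA hy := by group
          _ = (gA hy)⁻¹ * (x * (gA hy * tA y * (gA hy)⁻¹)) * gA hy := by rw [h]
          _ = _ := by group
      have hf : fA (φ ⟨c, hc⟩) = φ ⟨c, hc⟩ :=
        (fixed_transfer (sg_gA hy hL) _).1 (by rw [← hxg]; exact hfix)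
      have hmem : φ ⟨c, hc⟩ ∈ chevE6.group L := by
        rw [hφv]; exact mul_mem (mul_mem (inv_mem (gA_mem hy)) hG) (gA_mem hy)
      obtain ⟨i, s, hs, e⟩ := cent_struct hy hL hmem hcx hf
      exact ⟨(⟨_, pow_mem (Subgroup.mem_zpowers (tA y)) i⟩, ⟨s, hs⟩), e.symm⟩
    · rintro _ ⟨⟨⟨a, ha⟩, ⟨s, hs⟩⟩, rfl⟩
      obtain ⟨n, rfl⟩ : ∃ n : ℕ, tA y ^ n = a :=
        (isOfFinOrder_of_finite (tA y)).mem_powers_iff_mem_zpowers.2 ha
      show tA y ^ n * s ∈ φ.range
      obtain ⟨hsc, hsf, hsG⟩ := levi_comm hy hL hs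
      have hfix : wnu certE6C L [5] * sg (tA y ^ n * s) * (wnu certE6C L [5])⁻¹ = tA y ^ n * s := by
        rw [fA_eq, map_mul, map_pow, hsf, show fA (tA y) = tA y from fixed_A hy hL]
      obtain ⟨x, hx⟩ := lift_elem hK ι hL (sg_gA hy hL) (gA_mem hy)
        (mul_mem (pow_mem (tAB_mem hy hL).1 n) hsG) hfix
      have hc : x ∈ Subgroup.centralizer ({u} : Set ↥(Cfsg.Lie.twistedE6 K 2)) := by
        rw [Subgroup.mem_centralizer_singleton_iff]
        refine Subtype.ext (map_gl_injective ι ?_)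
        simp only [Subgroup.coe_mul, map_mul, hx, hu]
        have h : Commute (tA y) (tA y ^ n * s) := ((Commute.refl (tA y)).pow_right n).mul_right hsc
        rw [show ∀ a b : GL chevE6.Idx L, gA hy * a * (gA hy)⁻¹ * (gA hy * b * (gA hy)⁻¹) =
          gA hy * (a * b) * (gA hy)⁻¹ from fun a b => by group,
          show ∀ a b : GL chevE6.Idx L, gA hy * a * (gA hy)⁻¹ * (gA hy * b * (gA hy)⁻¹) =
          gA hy * (a * b) * (gA hy)⁻¹ from fun a b => by group, h.eq]
      refine ⟨⟨x, hc⟩, ?_⟩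
      rw [hφv, hx]
      group
  haveI : IsCyclic ↥(Subgroup.zpowers (tA y)) := inferInstance
  have hz : Nat.card ↥(Subgroup.zpowers (tA y)) = 5 := by rw [Nat.card_zpowers, (tA_order hy hL).1]
  exact ⟨((MonoidHom.ofInjective hφ).trans ((MulEquiv.subgroupCongr hr).trans (MonoidHom.ofInjective hψ).symm)).trans
    (MulEquiv.prodCongr ((zmodCyclicMulEquiv inferInstance).symm.trans
      (MulEquiv.cast (M := fun n => Multiplicative (ZMod n)) hz)) (eS.trans eA))⟩

theorem pow_tt {G : Type*} [Group G] (g a b : G) (i j : ℕ) :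
    (g * a * g⁻¹) ^ i * (g * b * g⁻¹) ^ j = g * (a ^ i * b ^ j) * g⁻¹ := by
  rw [conj_pow, conj_pow]; group

include hy hL hK in
theorem classes_five {u : ↥(Cfsg.Lie.twistedE6 K 2)}
    (hu : Matrix.GeneralLinearGroup.map ι (u : GL chevE6.Idx K) = gA hy * tA y * (gA hy)⁻¹)
    {x : ↥(Cfsg.Lie.twistedE6 K 2)} (hx : orderOf x = 5) :
    ∃ g : ↥(Cfsg.Lie.twistedE6 K 2), g * u * g⁻¹ = x := by
  haveI : Fact (Nat.Prime 5) := ⟨by norm_num⟩
  have hg2 := sg_g2 hy hL
  have hu2 : Matrix.GeneralLinearGroup.map ι (u : GL chevE6.Idx K) = g2 hy * tA y * (g2 hy)⁻¹ :=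
    hu.trans (conj_frames hy).symm
  obtain ⟨v, hv⟩ := lift_elem hK ι hL hg2 (g2_mem hy) (tAB_mem hy hL).2 (fixed_nW hy hL).2
  have hinj : Function.Injective
      (fun z : ↥(Cfsg.Lie.twistedE6 K 2) => Matrix.GeneralLinearGroup.map ι (z : GL chevE6.Idx K)) :=
    fun a b e => Subtype.ext (map_gl_injective ι e)
  have himg : ∀ i j : ℕ, Matrix.GeneralLinearGroup.map ι ((u ^ i * v ^ j : ↥(Cfsg.Lie.twistedE6 K 2)) : GL chevE6.Idx K) =
      g2 hy * tt y i j * (g2 hy)⁻¹ := fun i j => by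
    simp only [Subgroup.coe_mul, SubmonoidClass.coe_pow, map_mul, map_pow, hu2, hv]
    exact pow_tt _ _ _ i j
  have huv : Commute u v := hinj (by
    simp only [Subgroup.coe_mul, map_mul, hu2, hv]
    calc g2 hy * tA y * (g2 hy)⁻¹ * (g2 hy * tB y * (g2 hy)⁻¹) = g2 hy * (tA y * tB y) * (g2 hy)⁻¹ := by group
      _ = g2 hy * (tB y * tA y) * (g2 hy)⁻¹ := by rw [(tAB_comm hy hL).eq]
      _ = _ := by group)
  have hou : orderOf u = 5 := by
    refine orderOf_eq_prime (hinj ?_) fun h => ?_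
    · have := himg 5 0
      simp only [pow_zero, mul_one] at this
      simp only [this, Subgroup.coe_one, map_one, tt, pow_zero, mul_one,
        show tA y ^ 5 = 1 by rw [← (tA_order hy hL).1, pow_orderOf_eq_one], mul_inv_cancel]
    · rw [h] at hu2
      simp only [Subgroup.coe_one, map_one] at hu2
      have := (tA_order hy hL).1
      rw [conj_eq_one_iff.1 hu2.symm, orderOf_one] at this
      norm_num at this
  have hov : orderOf v = 5 := by
    refine orderOf_eq_prime (hinj ?_) fun h => ?_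
    · have := himg 0 5
      simp only [pow_zero, one_mul] at this
      simp only [this, Subgroup.coe_one, map_one, tt, pow_zero, one_mul, mul_one,
        show tB y ^ 5 = 1 by rw [← (tA_order hy hL).2, pow_orderOf_eq_one], mul_inv_cancel]
    · rw [h] at hv
      simp only [Subgroup.coe_one, map_one] at hv
      have := (tA_order hy hL).2
      rw [conj_eq_one_iff.1 hv.symm, orderOf_one] at this
      norm_num at this
  have hcomm : ∀ (a : ↥(Subgroup.zpowers u)) (b : ↥(Subgroup.zpowers v)),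
      Commute ((Subgroup.zpowers u).subtype a) ((Subgroup.zpowers v).subtype b) := by
    rintro ⟨a, n, rfl⟩ ⟨b, m, rfl⟩
    exact huv.zpow_zpow n m
  let θ := MonoidHom.noncommCoprod (Subgroup.zpowers u).subtype (Subgroup.zpowers v).subtype hcomm
  have hel : ∀ a b, ∃ i < 5, ∃ j < 5, θ (a, b) = u ^ i * v ^ j ∧ (a : ↥(Cfsg.Lie.twistedE6 K 2)) = u ^ i ∧
      (b : ↥(Cfsg.Lie.twistedE6 K 2)) = v ^ j := by
    rintro ⟨a, ha⟩ ⟨b, hb⟩
    obtain ⟨i, hi, rfl⟩ : ∃ i < 5, u ^ i = a := by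
      obtain ⟨n, hn⟩ := (isOfFinOrder_of_finite u).mem_powers_iff_mem_zpowers.2 ha
      exact ⟨n % 5, Nat.mod_lt _ (by norm_num), by
        rw [show n % 5 = n % orderOf u by rw [hou], pow_mod_orderOf]; exact hn⟩
    obtain ⟨j, hj, rfl⟩ : ∃ j < 5, v ^ j = b := by
      obtain ⟨n, hn⟩ := (isOfFinOrder_of_finite v).mem_powers_iff_mem_zpowers.2 hb
      exact ⟨n % 5, Nat.mod_lt _ (by norm_num), by
        rw [show n % 5 = n % orderOf v by rw [hov], pow_mod_orderOf]; exact hn⟩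
    exact ⟨i, hi, j, hj, rfl, rfl, rfl⟩
  have hθ : Function.Injective θ := by
    rw [injective_iff_map_eq_one]
    rintro ⟨a, b⟩ h
    obtain ⟨i, hi, j, hj, e, ea, eb⟩ := hel a b
    rw [e] at h
    have h1 := himg i j
    rw [h, Subgroup.coe_one, map_one] at h1
    obtain ⟨rfl, rfl⟩ := tt_eq_one hy hL hi hj (conj_eq_one_iff.1 h1.symm)
    exact Prod.ext (Subtype.ext (by simpa using ea)) (Subtype.ext (by simpa using eb))
  have hP : Nat.card ↥θ.range = 5 ^ 2 := by
    rw [← Nat.card_congr (MonoidHom.ofInjective hθ).toEquiv, Nat.card_prod, Nat.card_zpowers, Nat.card_zpowers, hou,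
      hov]
    norm_num
  obtain ⟨Q, hQ⟩ := (IsPGroup.of_card hP).exists_le_sylow
  have hQc : Nat.card ↥(Q : Subgroup ↥(Cfsg.Lie.twistedE6 K 2)) ∣ 5 ^ 2 := by
    obtain ⟨k, hk⟩ := Q.isPGroup'.exists_card_eq
    rw [hk]
    refine pow_dvd_pow 5 ?_
    by_contra hlt
    have hd : 5 ^ 3 ∣ 3 * Nat.card ↥(Cfsg.Lie.twistedE6 K 2) :=
      Dvd.dvd.mul_left ((pow_dvd_pow 5 (by omega : 3 ≤ k)).trans (hk ▸ Subgroup.card_subgroup_dvd_card _)) 3
    have hG := twistedE6_order (K := K) (q := 2) Nat.prime_two.isPrimePow (by rw [hK]; norm_num)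
    rw [show Nat.gcd 3 (2 + 1) = 3 from rfl] at hG
    rw [hG] at hd
    norm_num at hd
  have hPQ : θ.range = (Q : Subgroup ↥(Cfsg.Lie.twistedE6 K 2)) :=
    Subgroup.eq_of_le_of_card_ge hQ (hP ▸ Nat.le_of_dvd (by norm_num) hQc)
  obtain ⟨R, hR⟩ := (IsPGroup.of_card (p := 5) (n := 1) (by rw [Nat.card_zpowers, hx, pow_one] :
    Nat.card ↥(Subgroup.zpowers x) = 5 ^ 1)).exists_le_sylow
  obtain ⟨g, hg⟩ := MulAction.exists_smul_eq ↥(Cfsg.Lie.twistedE6 K 2) R Q
  have hgx : g * x * g⁻¹ ∈ θ.range := by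
    rw [hPQ, ← hg]
    exact Subgroup.mem_map.2 ⟨x, hR (Subgroup.mem_zpowers x), rfl⟩
  obtain ⟨⟨a, b⟩, hab⟩ := hgx
  obtain ⟨i, hi, j, hj, e, -, -⟩ := hel a b
  have hij : i + j ≠ 0 := by
    intro h
    obtain ⟨rfl, rfl⟩ : i = 0 ∧ j = 0 := by omega
    rw [e, pow_zero, pow_zero, one_mul] at hab
    rw [conj_eq_one_iff.1 hab.symm, orderOf_one] at hx
    norm_num at hx
  obtain ⟨p, hp, hpij⟩ := List.mem_map.1
    (((clW_cover i (List.mem_range.2 hi) j (List.mem_range.2 hj))).resolve_left hij)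
  obtain ⟨hconj, hfix⟩ := move_class hy hL hp
  obtain ⟨z, hz⟩ := lift_elem hK ι hL hg2 (g2_mem hy) (wnu_mem_group' (clW_comm p hp).1) hfix
  have hzu : z * u * z⁻¹ = u ^ i * v ^ j := hinj (by
    simp only [himg]
    simp only [Subgroup.coe_mul, Subgroup.coe_inv, map_mul, map_inv, hz, hu2]
    rw [show p.1 = i from congrArg Prod.fst hpij, show p.2.1 = j from congrArg Prod.snd hpij] at hconj
    rw [← hconj]
    group)
  refine ⟨g⁻¹ * z, ?_⟩
  calc g⁻¹ * z * u * (g⁻¹ * z)⁻¹ = g⁻¹ * (z * u * z⁻¹) * g := by group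
    _ = g⁻¹ * (g * x * g⁻¹) * g := by rw [hzu, ← e, hab]
    _ = x := by group

include hK in
theorem main : (∀ x y : ↥(Cfsg.Lie.twistedE6 K 2), orderOf x = 5 → orderOf y = 5 → IsConj x y) ∧
    ∀ x : ↥(Cfsg.Lie.twistedE6 K 2), orderOf x = 5 →
      Nonempty (↥(Subgroup.centralizer ({x} : Set ↥(Cfsg.Lie.twistedE6 K 2))) ≃*
        (Multiplicative (ZMod 5) × ↥(alternatingGroup (Fin 8)))) := by
  obtain ⟨L, _, _, _, ι, y, hL, hy⟩ := exists_field hK
  obtain ⟨u, hu⟩ := lift_elem hK ι hL (sg_gA hy hL) (gA_mem hy) (tAB_mem hy hL).1 (fixed_A hy hL)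
  refine ⟨fun a b ha hb => ?_, fun a ha => ?_⟩
  · obtain ⟨g, hg⟩ := classes_five hK ι hy hL hu ha
    obtain ⟨g', hg'⟩ := classes_five hK ι hy hL hu hb
    exact (isConj_iff.2 ⟨g, hg⟩).symm.trans (isConj_iff.2 ⟨g', hg'⟩)
  · obtain ⟨g, hg⟩ := classes_five hK ι hy hL hu ha
    obtain ⟨e⟩ := cent_conj_equiv hg
    obtain ⟨e'⟩ := cent_five hK ι hy hL hu
    exact ⟨e.symm.trans e'⟩

end Cfsg.Lib.Chev.TwE6Five
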