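import Cfsg.Agent.Lib.Chev.TwE6Five.Elems

/-! The torus of order 25, its images in ²E₆(2), and its fusion. -/

set_option autoImplicit false
set_option maxRecDepth 100000
set_option linter.unusedSectionVars false

namespace Cfsg.Lib.Chev.TwE6Five

open Cfsg.Lie
open Cfsg.Lib.Chev.TwMult (rHom rHom_tri)
open scoped MatrixGroups

variable {L : Type*} [Field L] [CharP L 2] [Fintype L] {y : L} (hy : y ^ 4 = y + 1) (hL : Fintype.card L = 16)

theorem zeta_order (hy : y ^ 4 = y + 1) (hL : Fintype.card L = 16) : orderOf (y ^ 3) = 5 := by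
  have h15 : y ^ 15 = 1 := by
    have h := pow_sixteen hL y
    rw [pow_succ] at h
    exact (mul_eq_right₀ (y_ne_zero hy)).1 h
  haveI : Fact (Nat.Prime 5) := ⟨by norm_num⟩
  refine orderOf_eq_prime (by rw [← pow_mul]; exact h15) fun h => ?_
  rw [pow_succ _ 3, h, one_mul] at hy
  simp at hy

theorem zeta_ne (hy : y ^ 4 = y + 1) : y ^ 3 ≠ 0 := pow_ne_zero _ (y_ne_zero hy)

theorem zeta_congr (hy : y ^ 4 = y + 1) (hL : Fintype.card L = 16) {a b : ℤ} (h : a % 5 = b % 5) :
    (y ^ 3) ^ a = (y ^ 3) ^ b := by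
  have h5 : (y ^ 3) ^ (5 : ℤ) = 1 := by
    rw [show (5 : ℤ) = ((5 : ℕ) : ℤ) from rfl, zpow_natCast, ← zeta_order hy hL, pow_orderOf_eq_one]
  rw [← Int.emod_add_mul_ediv a 5, ← Int.emod_add_mul_ediv b 5, h, zpow_add₀ (zeta_ne hy), zpow_add₀ (zeta_ne hy),
    zpow_mul, zpow_mul, h5, one_zpow, one_zpow]

theorem zeta_eq_one (hy : y ^ 4 = y + 1) (hL : Fintype.card L = 16) {a : ℤ} (h : (y ^ 3) ^ a = 1) : a % 5 = 0 := by
  rw [← Int.emod_add_mul_ediv a 5, zpow_add₀ (zeta_ne hy), zpow_mul,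
    zeta_congr hy hL (show (5 : ℤ) % 5 = 0 % 5 by norm_num), zpow_zero, one_zpow, mul_one] at h
  obtain ⟨k, hk⟩ := Int.eq_ofNat_of_zero_le (Int.emod_nonneg a (show (5 : ℤ) ≠ 0 by norm_num))
  rw [hk, zpow_natCast] at h
  have hd : 5 ∣ k := zeta_order hy hL ▸ orderOf_dvd_of_pow_eq_one h
  have hlt : a % 5 < 5 := Int.emod_lt_of_pos a (by norm_num)
  rw [hk]
  obtain ⟨m, rfl⟩ := hd
  omega

/-- An element multiplies the root parameters by powers of the root of unity. -/
def Acts (y : L) (h : GL chevE6.Idx L) (e : ℕ → ℤ) : Prop :=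
  ∀ x < 72, ∀ t : L, h * xg certE6C x t * h⁻¹ = xg certE6C x ((y ^ 3) ^ e x * t)

include hy hL in
theorem Acts.congr {h : GL chevE6.Idx L} {e e' : ℕ → ℤ} (ha : Acts y h e) (he : ∀ x < 72, e x % 5 = e' x % 5) :
    Acts y h e' := fun x hx t => by rw [ha x hx t, zeta_congr hy hL (he x hx)]

include hy hL in
theorem Acts.mul {h h' : GL chevE6.Idx L} {e e' : ℕ → ℤ} (ha : Acts y h e) (hb : Acts y h' e') :
    Acts y (h * h') (fun x => e x + e' x) := fun x hx t => by
  rw [show h * h' * xg certE6C x t * (h * h')⁻¹ = h * (h' * xg certE6C x t * h'⁻¹) * h⁻¹ by group, hb x hx, ha x hx,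
    zpow_add₀ (zeta_ne hy), mul_assoc]

theorem acts_one : Acts y (1 : GL chevE6.Idx L) (fun _ => 0) := fun x _ t => by simp

include hy hL in
theorem Acts.pow {h : GL chevE6.Idx L} {e : ℕ → ℤ} (ha : Acts y h e) :
    ∀ n : ℕ, Acts y (h ^ n) (fun x => n * e x)
  | 0 => fun x hx t => by simpa using acts_one x hx t
  | n + 1 => by
    rw [pow_succ]
    refine Acts.congr hy hL (Acts.mul hy hL (Acts.pow ha n) ha) fun x _ => ?_
    push_cast; ring_nf

theorem diag_ext {h h' : GL chevE6.Idx L} (hd : h ∈ chevE6.diagonalSubgroup L)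
    (hd' : h' ∈ chevE6.diagonalSubgroup L) {e : ℕ → ℤ} (ha : Acts y h e) (hb : Acts y h' e) : h = h' := by
  rw [← torusHom_range certE6C] at hd hd'
  obtain ⟨c, rfl⟩ := hd
  obtain ⟨c', rfl⟩ := hd'
  refine torusHom_congr fun r hr => ?_
  have e1 := (torusHom_conj_xg certE6C c hr 1).symm.trans (ha r hr 1)
  have e2 := (torusHom_conj_xg certE6C c' hr 1).symm.trans (hb r hr 1)
  rw [mul_one, mul_one] at e1 e2
  rw [xg_injective certE6C hr e1, xg_injective certE6C hr e2]

/-- The first generator of the torus. -/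
noncomputable def tA (y : L) : GL chevE6.Idx L := hg certE6C 56 (y ^ 3) * hg certE6C 36 ((y ^ 3) ^ 3)

/-- The second generator of the torus. -/
noncomputable def tB (y : L) : GL chevE6.Idx L := hg certE6C 46 (y ^ 3) * hg certE6C 69 ((y ^ 3) ^ 3)

/-- The elements of the torus. -/
noncomputable def tt (y : L) (i j : ℕ) : GL chevE6.Idx L := tA y ^ i * tB y ^ j

include hy in
theorem pair_diag {r s : ℕ} (hr : r < 72) (hs : s < 72) :
    hg certE6C r (y ^ 3) * hg certE6C s ((y ^ 3) ^ 3) ∈ chevE6.diagonalSubgroup L :=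
  mul_mem (hg_mem certE6C hr (zeta_ne hy)) (hg_mem certE6C hs (pow_ne_zero _ (zeta_ne hy)))

include hy in
theorem tt_diag (i j : ℕ) : tt y i j ∈ chevE6.diagonalSubgroup L :=
  mul_mem (pow_mem (pair_diag hy (by norm_num) (by norm_num)) i) (pow_mem (pair_diag hy (by norm_num) (by norm_num)) j)

include hy hL in
theorem pair_acts {r s : ℕ} (hr : r < 72) (hs : s < 72) :
    Acts y (hg certE6C r (y ^ 3) * hg certE6C s ((y ^ 3) ^ 3)) (fun x => ipT tblE6 r x + 3 * ipT tblE6 s x) := by
  refine Acts.mul hy hL (fun x hx t => hg_conj certE6C hr hx (zeta_ne hy) t) fun x hx t => ?_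
  rw [hg_conj certE6C hs hx (pow_ne_zero _ (zeta_ne hy)), ← zpow_natCast (y ^ 3) 3, ← zpow_mul]
  rfl

include hy hL in
theorem tt_acts (i j : ℕ) : Acts y (tt y i j) (eI i j) := by
  refine Acts.congr hy hL (Acts.mul hy hL
    (Acts.pow hy hL (pair_acts hy hL (by norm_num) (by norm_num)) i)
    (Acts.pow hy hL (pair_acts hy hL (by norm_num) (by norm_num)) j)) fun x _ => ?_
  rw [eI, Int.emod_emod_of_dvd _ dvd_rfl]

theorem pi_five : ∀ x < 72, eI 1 0 (wperm tblE6 [5] (symE6_1.root x)) = 2 * eI 1 0 x % 5 := by decide +kernel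

theorem pi_nW : ∀ x < 72, eI 1 0 (wperm tblE6 nW (symE6_1.root x)) = 2 * eI 1 0 x % 5 ∧
    eI 0 1 (wperm tblE6 nW (symE6_1.root x)) = 2 * eI 0 1 x % 5 := by decide +kernel

include hy hL in
theorem tt_fixed {W : List ℕ} (hW : IsWord chevE6 W) {i j : ℕ}
    (hpi : ∀ x < 72, eI i j (wperm tblE6 W (symE6_1.root x)) = 2 * eI i j x % 5) :
    wnu certE6C L W * sg (tt y i j) * (wnu certE6C L W)⁻¹ = tt y i j := by
  haveI : Fact (Nat.Prime 2) := ⟨Nat.prime_two⟩
  refine diag_ext (y := y) ?_ (tt_diag hy i j) (e := eI i j) ?_ (tt_acts hy hL i j)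
  · exact (conj_mem_diag certE6C (wnu_mem certE6C hW) (twSigma_diag certE6C symOKE6_gr _ (tt_diag hy i j))).1
  · intro r hr t
    set x := symE6_1.root (wperm tblE6 W.reverse r) with hxdef
    have hwr : wperm tblE6 W.reverse r < 72 := wperm_lt certE6C hW.reverse hr
    have hx : x < 72 := symOKE6_gr.root_lt _ hwr
    have hxs : symE6_1.root x = wperm tblE6 W.reverse r := sym_root_twice _ hwr
    have hpr : wperm tblE6 W (symE6_1.root x) = r := by
      rw [hxs]
      have := wperm_reverse certE6C hW.reverse hr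
      rwa [List.reverse_reverse] at this
    have ht : (t ^ 8) ^ 2 = t := by rw [← pow_mul]; exact pow_sixteen hL t
    have h1 : wnu certE6C L W * sg (tt y i j * xg certE6C x (t ^ 8) * (tt y i j)⁻¹) * (wnu certE6C L W)⁻¹ =
        wnu certE6C L W * sg (xg certE6C x ((y ^ 3) ^ eI i j x * t ^ 8)) * (wnu certE6C L W)⁻¹ := by
      rw [tt_acts hy hL i j x hx]
    rw [sg_mul, sg_mul, sg_inv, sg_xg hx, sg_xg hx, ht, mul_pow, ht] at h1
    have h2 := wnu_conj_xg_two certE6C (F := L) hW (symOKE6_gr.root_lt x hx)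
    rw [show wnu certE6C L W * (sg (tt y i j) * xg certE6C (symE6_1.root x) t * (sg (tt y i j))⁻¹) *
        (wnu certE6C L W)⁻¹ = (wnu certE6C L W * sg (tt y i j) * (wnu certE6C L W)⁻¹) *
        (wnu certE6C L W * xg certE6C (symE6_1.root x) t * (wnu certE6C L W)⁻¹) *
        (wnu certE6C L W * sg (tt y i j) * (wnu certE6C L W)⁻¹)⁻¹ by group, h2, h2, hpr] at h1
    rw [h1]
    congr 2
    rw [← zpow_natCast, ← zpow_mul]
    refine zeta_congr hy hL ?_
    have := hpi x hx
    rw [hpr] at this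
    rw [this, Int.emod_emod_of_dvd _ dvd_rfl, mul_comm]
    rfl

include hy hL in
theorem fixed_A : wnu certE6C L [5] * sg (tA y) * (wnu certE6C L [5])⁻¹ = tA y := by
  have := tt_fixed hy hL word_five (i := 1) (j := 0) fun x hx => pi_five x hx
  simpa [tt] using this

include hy hL in
theorem fixed_nW : wnu certE6C L nW * sg (tA y) * (wnu certE6C L nW)⁻¹ = tA y ∧
    wnu certE6C L nW * sg (tB y) * (wnu certE6C L nW)⁻¹ = tB y := by
  have h1 := tt_fixed hy hL word_nW (i := 1) (j := 0) fun x hx => (pi_nW x hx).1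
  have h2 := tt_fixed hy hL word_nW (i := 0) (j := 1) fun x hx => (pi_nW x hx).2
  constructor
  · simpa [tt] using h1
  · simpa [tt] using h2

include hy hL in
theorem tt_eq_one {i j : ℕ} (hi : i < 5) (hj : j < 5) (h : tt y i j = 1) : i = 0 ∧ j = 0 := by
  by_contra hne
  obtain ⟨x, hx, he⟩ := eI_sep i hi j hj (by omega)
  have h1 := tt_acts hy hL i j x hx 1
  rw [h, one_mul, inv_one, mul_one, mul_one] at h1
  have := zeta_eq_one hy hL (xg_injective certE6C hx h1).symm
  rw [eI, Int.emod_emod_of_dvd _ dvd_rfl] at this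
  exact he this

include hy hL in
theorem tA_order : orderOf (tA y) = 5 ∧ orderOf (tB y) = 5 := by
  haveI : Fact (Nat.Prime 5) := ⟨by norm_num⟩
  have hz : ∀ i j : ℕ, Acts y (tt y (5 * i) (5 * j)) (fun _ => 0) := fun i j =>
    Acts.congr hy hL (tt_acts hy hL _ _) fun x _ => by
      rw [eI, Int.emod_emod_of_dvd _ dvd_rfl]; push_cast
      rw [show ((5 : ℤ) * i) * (ipT tblE6 56 x + 3 * ipT tblE6 36 x) + (5 * j) * (ipT tblE6 46 x + 3 * ipT tblE6 69 x) =
        5 * (i * (ipT tblE6 56 x + 3 * ipT tblE6 36 x) + j * (ipT tblE6 46 x + 3 * ipT tblE6 69 x)) by ring,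
        Int.mul_emod_right]
  refine ⟨orderOf_eq_prime ?_ fun h => ?_, orderOf_eq_prime ?_ fun h => ?_⟩
  · have := diag_ext (tt_diag hy _ _) (one_mem _) (hz 1 0) acts_one
    simpa [tt] using this
  · have := tt_eq_one hy hL (i := 1) (j := 0) (by norm_num) (by norm_num) (by simp [tt, h])
    simp at this
  · have := diag_ext (tt_diag hy _ _) (one_mem _) (hz 0 1) acts_one
    simpa [tt] using this
  · have := tt_eq_one hy hL (i := 0) (j := 1) (by norm_num) (by norm_num) (by simp [tt, h])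
    simp at this

include hy in
theorem tA_eq_rh : ∃ a b : SL(2, L), tA y = rHom certE6C 56 a * rHom certE6C 36 b :=
  ⟨_, _, by rw [rHom_tri certE6C (by decide) _ (zeta_ne hy), rHom_tri certE6C (by decide) _ (pow_ne_zero _ (zeta_ne hy))]; rfl⟩

/-- The first torus element commutes with the parts of the conjugating element in the Levi subgroup. -/
theorem tA_comm_levi : Commute (tA y) (kk hy * gB hy) := by
  obtain ⟨a, b, e⟩ := tA_eq_rh hy
  rw [e]
  have c : ∀ s, s ∈ [47, 70, 46, 69] → ∀ g : SL(2, L), Commute (rHom certE6C 56 a * rHom certE6C 36 b)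
      (rHom certE6C s g) := by
    intro s hs g
    simp only [List.mem_cons, List.not_mem_nil, or_false] at hs
    rcases hs with rfl | rfl | rfl | rfl <;>
      exact (rh_comm (by simp) (by norm_num) (by norm_num) _ _).mul_left
        (rh_comm (by simp) (by norm_num) (by norm_num) _ _)
  exact ((c 47 (by simp) _).mul_right (c 70 (by simp) _)).mul_right
    ((c 46 (by simp) _).mul_right (c 69 (by simp) _))

theorem conj_frames : g2 hy * tA y * (g2 hy)⁻¹ = gA hy * tA y * (gA hy)⁻¹ := by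
  rw [g2, mul_assoc (gA hy), mul_assoc (gA hy), ← (tA_comm_levi hy).eq]
  group

include hy hL in
theorem move_class {p : ℕ × ℕ × List ℕ} (hp : p ∈ clW) :
    wnu certE6C L p.2.2 * tA y * (wnu certE6C L p.2.2)⁻¹ = tt y p.1 p.2.1 ∧
      wnu certE6C L nW * sg (wnu certE6C L p.2.2) * (wnu certE6C L nW)⁻¹ = wnu certE6C L p.2.2 := by
  haveI : Fact (Nat.Prime 2) := ⟨Nat.prime_two⟩
  obtain ⟨hw6, hperm⟩ := clW_comm p hp
  have hw : IsWord chevE6 p.2.2 := hw6
  constructor
  · have hd : tA y ∈ chevE6.diagonalSubgroup L := pair_diag hy (by norm_num) (by norm_num)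
    refine diag_ext (conj_mem_diag certE6C (wnu_mem certE6C hw) hd).1 (tt_diag hy _ _) (e := eI p.1 p.2.1) ?_
      (tt_acts hy hL _ _)
    rw [tA, ← rHom_tri certE6C (by decide) _ (zeta_ne hy),
      ← rHom_tri certE6C (by decide) _ (pow_ne_zero 3 (zeta_ne hy)),
      show ∀ a b : GL chevE6.Idx L, wnu certE6C L p.2.2 * (a * b) * (wnu certE6C L p.2.2)⁻¹ =
        (wnu certE6C L p.2.2 * a * (wnu certE6C L p.2.2)⁻¹) * (wnu certE6C L p.2.2 * b * (wnu certE6C L p.2.2)⁻¹)
        from fun a b => by group,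
      wnu_conj_rHom certE6C hw (by decide), wnu_conj_rHom certE6C hw (by decide),
      rHom_tri certE6C (wperm_lt certE6C hw (by decide)), rHom_tri certE6C (wperm_lt certE6C hw (by decide))]
    refine Acts.congr hy hL (pair_acts hy hL (wperm_lt certE6C hw (by decide)) (wperm_lt certE6C hw (by decide)))
      fun x hx => ?_
    rw [← clW_exp p hp x hx, Int.emod_emod_of_dvd _ dvd_rfl]
  · have hs : sg (wnu certE6C L p.2.2) = wnu certE6C L (p.2.2.map symE6_1.node) := sig_wnu certE6C symOKE6_gr _ hw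
    have hn : IsWord chevE6 (p.2.2.map symE6_1.node) := fun i hi => by
      obtain ⟨a, ha, rfl⟩ := List.mem_map.1 hi
      exact symOKE6_gr.node_lt a (hw a ha)
    have hrev : (wnu certE6C L nW)⁻¹ = wnu certE6C L nW.reverse := by
      refine inv_eq_of_mul_eq_one_right ?_
      rw [← wnu_append, wnu_eq_two certE6C fullCertE6 (w := []) (word_nW.append word_nW.reverse)
        (fun i hi => absurd hi List.not_mem_nil) fun k hk => by
          have := wperm_reverse certE6C word_nW.reverse (certE6C.spec.simp_lt k hk)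
          rw [List.reverse_reverse] at this
          rw [wperm_append, this]; rfl]
      simp [wnu]
    rw [hs, hrev, ← wnu_append, ← wnu_append,
      wnu_eq_two certE6C fullCertE6 ((word_nW.append hn).append word_nW.reverse) hw hperm]

end Cfsg.Lib.Chev.TwE6Five
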