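import Cfsg.Agent.Lib.Chev.TwE6
import Cfsg.Agent.Lib.Chev.InvCent
import Cfsg.Agent.Lib.Chev.TwMult.Simply.Orbit

/-!
Chevalley groups in characteristic two: the reflection elements depend only on the Weyl group element and the graph
twisting has no signs.
-/

set_option autoImplicit false
set_option linter.unusedSectionVars false

namespace Cfsg.Lib.Chev.TwE6Five

open Cfsg.Lie
open Cfsg.Lib.Chev.TwMult (rHom rHom_upr rHom_lwr rHom_rot rHom_tri map_upr map_rot)
open scoped MatrixGroups

variable {D : ChevalleyDatum} {T : Tbl} {F : Type*} [Field F] (C : Cert D T)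
include C

omit C in
theorem two_sign [CharP F 2] {z : ℤ} (h : z = 1 ∨ z = -1) : (z : F) = 1 := by
  haveI : Fact (Nat.Prime 2) := ⟨Nat.prime_two⟩
  rcases h with rfl | rfl
  · exact Int.cast_one
  · rw [Int.cast_neg, Int.cast_one]; exact CharTwo.neg_eq 1

variable [CharP F 2]

omit C in
theorem eta_two (i s : ℕ) : ((T.eta' i s : ℤ) : F) = 1 := by
  refine two_sign ?_
  unfold Tbl.eta'
  cases Nat.beq (slot (T.eta.get i) 1 s) 1 <;> simp

theorem wnu_conj_xg_two {w : List ℕ} (hw : IsWord D w) {s : ℕ} (hs : s < D.nroots) (t : F) :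
    wnu C F w * xg C s t * (wnu C F w)⁻¹ = xg C (wperm T w s) t := by
  obtain ⟨c, hc, h⟩ := wnu_conj_xg C (F := F) hw hs
  have hc1 : c = 1 := by
    rcases mul_self_eq_one_iff.1 hc with h1 | h1
    · exact h1
    · rw [h1]; exact CharTwo.neg_eq 1
  rw [h, hc1, one_mul]

theorem wnu_conj_ng_two {w : List ℕ} (hw : IsWord D w) {s : ℕ} (hs : s < D.nroots) (v : F) :
    wnu C F w * ng C s v * (wnu C F w)⁻¹ = ng C (wperm T w s) v := by
  induction w with
  | nil => simp [wnu, wperm]
  | cons i w ih =>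
    rw [wnu_cons, mul_inv_rev, show nu C i * wnu C F w * ng C s v * ((wnu C F w)⁻¹ * (nu C i)⁻¹) =
        nu C i * (wnu C F w * ng C s v * (wnu C F w)⁻¹) * (nu C i)⁻¹ by group, ih hw.tail.2,
      nu_conj_ng C hw.tail.1 (wperm_lt C hw.tail.2 hs), eta_two, one_mul]
    rfl

variable (K : FullCert D T)
include K

theorem wnu_eq_two {v w : List ℕ} (hv : IsWord D v) (hw : IsWord D w)
    (h : ∀ k < D.rank, wperm T v (T.simp' k) = wperm T w (T.simp' k)) : wnu C F v = wnu C F w := by
  haveI : Fact (Nat.Prime 2) := ⟨Nat.prime_two⟩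
  let ι : ZMod 2 →+* F := ZMod.castHom dvd_rfl F
  have h1 := same_of_perm C K (F := ZMod 2) hv hw h
  rw [← torusHom_range C] at h1
  obtain ⟨c, hc⟩ := h1
  have : c = 1 := funext fun j => Subsingleton.elim _ _
  rw [this, map_one] at hc
  rw [← map_wnu C ι v, ← map_wnu C ι w, inv_mul_eq_one.1 hc.symm]

/-- The element of a reflection is the element of a word. -/
theorem ng_eq_wnu {d : List ℕ} {i r : ℕ} (hd : IsWord D d) (hi : i < D.rank) (h : wperm T d (T.simp' i) = r) :
    ng C r (1 : F) = wnu C F (d ++ [i] ++ d.reverse) := by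
  have hr : wnu C F d.reverse = (wnu C F d)⁻¹ := by
    refine eq_inv_of_mul_eq_one_left ?_
    rw [← wnu_append, wnu_eq_two C K (w := []) (hd.reverse.append hd) (fun j hj => absurd hj List.not_mem_nil)
      fun k hk => by rw [wperm_append, wperm_reverse C hd (C.spec.simp_lt k hk)]; rfl]
    simp [wnu]
  rw [wnu_append, wnu_append, hr, ← h, ← wnu_conj_ng_two C hd (C.spec.simp_lt i hi) 1]
  simp [wnu, nu]

omit K

theorem sig_xg {S : Sym} (hS : SymOK D T S) (f : F →+* F) {r : ℕ} (hr : r < D.nroots) (t : F) :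
    twSigma hS f (xg C r t) = xg C (S.root r) (f t) := by
  rw [twSigma_xg C hS f hr, two_sign (hS.eps_cases r hr), one_mul]

omit C in
/-- The twisting as a homomorphism. -/
noncomputable def sigHom {S : Sym} (hS : SymOK D T S) (f : F →+* F) : GL D.Idx F →* GL D.Idx F :=
  hS.glHom.comp (Matrix.GeneralLinearGroup.map f)

omit C in
theorem sigHom_apply {S : Sym} (hS : SymOK D T S) (f : F →+* F) (g : GL D.Idx F) :
    sigHom hS f g = twSigma hS f g := rfl

theorem sig_wnu {S : Sym} (hS : SymOK D T S) (f : F →+* F) :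
    ∀ {w : List ℕ}, IsWord D w → twSigma hS f (wnu C F w) = wnu C F (w.map S.node)
  | [], _ => by simp [wnu, twSigma_one hS f]
  | i :: w, hw => by
    rw [wnu_cons, twSigma_mul, twSigma_nu C hS f hw.tail.1, sig_wnu hS f hw.tail.2, List.map_cons, wnu_cons]

omit C in
theorem slHom_ext {G : Type*} [Group G] {a b : SL(2, F) →* G} (h1 : ∀ t, a (SLTwoRel.upr t) = b (SLTwoRel.upr t))
    (h2 : a SLTwoRel.rot = b SLTwoRel.rot) : a = b := by
  refine MonoidHom.eq_of_eqOn_dense SLTwoRel.closure_eq_top ?_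
  rintro x (⟨t, rfl⟩ | rfl)
  exacts [h1 t, h2]

theorem sig_rHom {S : Sym} (hS : SymOK D T S) (f : F →+* F) {r : ℕ} (hr : r < D.nroots) (g : SL(2, F)) :
    twSigma hS f (rHom C r g) = rHom C (S.root r) (Matrix.SpecialLinearGroup.map f g) := by
  have e : (sigHom hS f).comp (rHom C r) = (rHom C (S.root r)).comp (Matrix.SpecialLinearGroup.map f) := by
    refine slHom_ext (fun t => ?_) ?_
    · simp only [MonoidHom.comp_apply, sigHom_apply, rHom_upr C hr, sig_xg C hS f hr, map_upr,
        rHom_upr C (hS.root_lt r hr)]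
    · simp only [MonoidHom.comp_apply, sigHom_apply, rHom_rot C hr, map_rot, rHom_rot C (hS.root_lt r hr)]
      have hn : r < D.nroots ∧ T.neg r < D.nroots := ⟨hr, C.spec.neg_lt r hr⟩
      simp only [ng, C.spec.shape.neg_eq r hr, C.spec.shape.neg_eq _ (hS.root_lt r hr), twSigma_mul,
        sig_xg C hS f hn.1, sig_xg C hS f hn.2, hS.root_neg r hr, map_one, map_neg, map_inv₀]
  exact DFunLike.congr_fun e g

theorem wnu_conj_rHom {w : List ℕ} (hw : IsWord D w) {r : ℕ} (hr : r < D.nroots) (g : SL(2, F)) :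
    wnu C F w * rHom C r g * (wnu C F w)⁻¹ = rHom C (wperm T w r) g := by
  have hr' := wperm_lt C hw hr
  have e : (MulAut.conj (wnu C F w)).toMonoidHom.comp (rHom C r) = rHom C (wperm T w r) := by
    refine slHom_ext (fun t => ?_) ?_
    · simp only [MonoidHom.comp_apply, MulEquiv.coe_toMonoidHom, MulAut.conj_apply, rHom_upr C hr, rHom_upr C hr',
        wnu_conj_xg_two C hw hr]
    · simp only [MonoidHom.comp_apply, MulEquiv.coe_toMonoidHom, MulAut.conj_apply, rHom_rot C hr, rHom_rot C hr',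
        wnu_conj_ng_two C hw hr]
  exact DFunLike.congr_fun e g

/-- The pairing of a root with a coroot. -/
noncomputable def ipT (T : Tbl) (r x : ℕ) : ℤ := sumBelow (fun j => T.coroot r j * T.cartan j x) T.rank

theorem hg_conj {r x : ℕ} (hr : r < D.nroots) (hx : x < D.nroots) {v : F} (hv : v ≠ 0) (t : F) :
    hg C r v * xg C x t * (hg C r v)⁻¹ = xg C x (v ^ ipT T r x * t) := by
  rw [hg_eq_torus C hr hv, torusHom_conj_xg C _ hx]
  congr 2
  rw [chr, ipT, sumBelow_eq, C.spec.shape.rank_eq, ← zpow_sum' hv]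
  refine Finset.prod_congr rfl fun j hj => ?_
  rw [Finset.mem_range] at hj
  simp only [extend', dif_pos hj, Units.val_mk0, ← zpow_mul]

end Cfsg.Lib.Chev.TwE6Five
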